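import Groth.Agent.Lib.Lead.QC.PullTensorInv
import Groth.Agent.Lib.Lead.QC.TensorDesc

/-!
# Pullback commutes with the tensor product of quasi-coherent modules
-/

universe u
open CategoryTheory Limits AlgebraicGeometry TopologicalSpace Opposite TensorProduct

namespace Groth.Agent.LD.QC

section PullTensorQC
variable {X X' : Scheme.{u}} (g : X' ⟶ X)

set_option maxHeartbeats 1600000 in
/-- **pullback commutes with the tensor product of quasi-coherent modules.** -/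
theorem isIso_pbTensorHom_of_qc (M N : X.Modules) [M.IsQuasicoherent]
    [N.IsQuasicoherent] : IsIso (pbTensorHom g M N) := by
  apply isIso_of_local_bijective
  intro x' W hxW
  obtain ⟨V, hV, hxV, -⟩ := exists_isAffineOpen_mem_and_subset (x := g x')
    (U := (⊤ : X.Opens)) trivial
  obtain ⟨U₀, hU₀, hxU₀, hU₀le⟩ := exists_isAffineOpen_mem_and_subset (x := x')
    (U := W ⊓ g ⁻¹ᵁ V) ⟨hxW, hxV⟩
  have h2 : U₀ ≤ W := fun y hy => (hU₀le hy).1
  have h3 : U₀ ≤ g ⁻¹ᵁ V := fun y hy => (hU₀le hy).2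
  refine ⟨U₀, hxU₀, h2, ?_⟩
  haveI := tensorMod_isQuasicoherent M N
  haveI : ((Scheme.Modules.pullback g).obj M).IsQuasicoherent := qc_pullback g M
  haveI : ((Scheme.Modules.pullback g).obj N).IsQuasicoherent := qc_pullback g N
  letI := (g.appLE V U₀ h3).hom.toAlgebra
  obtain ⟨Φ₁, hΦ₁⟩ := exists_pullback_sections_equiv_pbSec g hU₀ hV h3 (CohB1.tensorMod M N)
  obtain ⟨Φ₂, hΦ₂⟩ := exists_pullback_sections_equiv_pbSec g hU₀ hV h3 M
  obtain ⟨Φ₃, hΦ₃⟩ := exists_pullback_sections_equiv_pbSec g hU₀ hV h3 N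
  let T₁ := tensorSecEquiv M N hV
  let T₂ := tensorSecEquiv ((Scheme.Modules.pullback g).obj M)
    ((Scheme.Modules.pullback g).obj N) hU₀
  have hT₁ : ∀ m n, T₁ (m ⊗ₜ n) = SecTwist.tmul M N V m n := fun m n =>
    ((LinearEquiv.symm_apply_eq _).1 (tensorSecEquiv_symm_tmul M N hV m n)).symm
  have hT₂ : ∀ m n, T₂ (m ⊗ₜ n) = SecTwist.tmul _ _ U₀ m n := fun m n =>
    ((LinearEquiv.symm_apply_eq _).1 (tensorSecEquiv_symm_tmul _ _ hU₀ m n)).symm
  let Θ : Γ(X', U₀) ⊗[Γ(X, V)] (Γ(M, V) ⊗[Γ(X, V)] Γ(N, V)) ≃ₗ[Γ(X', U₀)]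
      Γ((Scheme.Modules.pullback g).obj (CohB1.tensorMod M N), U₀) :=
    (TensorProduct.AlgebraTensorModule.congr (LinearEquiv.refl Γ(X', U₀) Γ(X', U₀)) T₁) ≪≫ₗ
      Φ₁.symm
  let Ψ : Γ(X', U₀) ⊗[Γ(X, V)] (Γ(M, V) ⊗[Γ(X, V)] Γ(N, V)) ≃ₗ[Γ(X', U₀)]
      Γ(CohB1.tensorMod ((Scheme.Modules.pullback g).obj M)
        ((Scheme.Modules.pullback g).obj N), U₀) :=
    (TensorProduct.AlgebraTensorModule.distribBaseChange Γ(X, V) Γ(X', U₀) Γ(M, V) Γ(N, V)) ≪≫ₗ
      (TensorProduct.congr Φ₂.symm Φ₃.symm) ≪≫ₗ T₂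
  have hs : ∀ (K : X.Modules) [K.IsQuasicoherent]
      (Φ : Γ((Scheme.Modules.pullback g).obj K, U₀) ≃ₗ[Γ(X', U₀)] (Γ(X', U₀) ⊗[Γ(X, V)] Γ(K, V)))
      (_ : ∀ m : Γ(K, V), Φ (pbSec g K h3 m) = (1 : Γ(X', U₀)) ⊗ₜ[Γ(X, V)] m)
      (a : Γ(X', U₀)) (m : Γ(K, V)), Φ.symm (a ⊗ₜ[Γ(X, V)] m) = a • pbSec g K h3 m := by
    intro K _ Φ hΦ a m
    rw [LinearEquiv.symm_apply_eq, map_smul, hΦ, TensorProduct.smul_tmul', smul_eq_mul,
      mul_one]
  have key : ∀ w, (pbTensorHom g M N).app U₀ (Θ w) = Ψ w := by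
    intro w
    induction w using TensorProduct.induction_on with
    | zero => simp only [map_zero]
    | add w w' hw hw' => simp only [map_add, hw, hw']
    | tmul a z =>
      induction z using TensorProduct.induction_on with
      | zero => simp only [TensorProduct.tmul_zero, map_zero]
      | add z z' hz hz' => simp only [TensorProduct.tmul_add, map_add, hz, hz']
      | tmul m n =>
        have e1 : Θ (a ⊗ₜ[Γ(X, V)] (m ⊗ₜ[Γ(X, V)] n)) =
            a • pbSec g (CohB1.tensorMod M N) h3 (SecTwist.tmul M N V m n) := by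
          change Φ₁.symm ((TensorProduct.AlgebraTensorModule.congr
            (LinearEquiv.refl Γ(X', U₀) Γ(X', U₀)) T₁) (a ⊗ₜ[Γ(X, V)] (m ⊗ₜ[Γ(X, V)] n))) = _
          rw [TensorProduct.AlgebraTensorModule.congr_tmul, LinearEquiv.refl_apply, hT₁,
            hs _ Φ₁ hΦ₁]
        have e2 : Ψ (a ⊗ₜ[Γ(X, V)] (m ⊗ₜ[Γ(X, V)] n)) =
            a • SecTwist.tmul _ _ U₀ (pbSec g M h3 m) (pbSec g N h3 n) := by
          change T₂ ((TensorProduct.congr Φ₂.symm Φ₃.symm)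
            ((TensorProduct.AlgebraTensorModule.distribBaseChange Γ(X, V) Γ(X', U₀) Γ(M, V)
              Γ(N, V)) (a ⊗ₜ[Γ(X, V)] (m ⊗ₜ[Γ(X, V)] n)))) = _
          rw [TensorProduct.AlgebraTensorModule.distribBaseChange_tmul,
            TensorProduct.congr_tmul, hs _ Φ₂ hΦ₂, hs _ Φ₃ hΦ₃, one_smul,
            ← TensorProduct.smul_tmul', map_smul, hT₂]
          rfl
        rw [e1, e2, Scheme.Modules.Hom.app_smul, pbTensorHom_pbSec g M N ⟨V, hV⟩ h3 m n]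
        rfl
  have hfun : ⇑(ConcreteCategory.hom ((pbTensorHom g M N).app U₀)) = Ψ ∘ Θ.symm := by
    funext y
    have := key (Θ.symm y)
    rw [LinearEquiv.apply_symm_apply] at this
    exact this
  rw [hfun]
  exact Ψ.bijective.comp Θ.symm.bijective

/-- `g^* (M ⊗ N) ≅ g^* M ⊗ g^* N` for quasi-coherent `M`, `N`. -/
noncomputable def pbTensorIsoQC (M N : X.Modules) [M.IsQuasicoherent] [N.IsQuasicoherent] :
    (Scheme.Modules.pullback g).obj (CohB1.tensorMod M N) ≅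
      CohB1.tensorMod ((Scheme.Modules.pullback g).obj M) ((Scheme.Modules.pullback g).obj N) :=
  haveI := isIso_pbTensorHom_of_qc g M N
  asIso (pbTensorHom g M N)

end PullTensorQC

end Groth.Agent.LD.QC
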