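import Groth.Agent.Lib.Lead.LF.PullTensor
import Groth.Agent.Lib.Lead.XS.Restr
import Groth.Agent.Lib.Lead.QC.BasisFamPull
import Groth.Agent.Lib.Lead.QC.LocFree
import Groth.Agent.Lib.Helper2.HomSh3

/-!
# Base change for the sheaf Hom out of a finite locally free module

For `h : X' ⟶ X`, `F` finitely presented and `G` quasi-coherent we construct the canonical
comparison `h^* 𝓗om(F, G) ⟶ 𝓗om(h^* F, h^* G)` and show that it is an isomorphism when `F` is
finite locally free.
-/

universe u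
open CategoryTheory Limits AlgebraicGeometry TopologicalSpace Opposite TensorProduct

namespace Groth.Agent.LD.LF

open Groth.Agent.H2.HomSh Groth.Agent.LD Groth.Agent.LD.PD.HA

attribute [-instance] Groth.Agent.LD.QC.stalkModule

section
variable {X : Scheme.{u}}

lemma inv_app_app {M N : X.Modules} (φ : M ⟶ N) [IsIso φ] (U : X.Opens) (t : Γ(M, U)) :
    (inv φ).app U (φ.app U t) = t := by
  have h : φ ≫ inv φ = 𝟙 M := IsIso.hom_inv_id φ
  exact congrArg (fun ψ : M ⟶ M => Scheme.Modules.Hom.app ψ U t) h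

lemma app_inv_app {M N : X.Modules} (φ : M ⟶ N) [IsIso φ] (U : X.Opens) (t : Γ(N, U)) :
    φ.app U ((inv φ).app U t) = t := by
  have h : inv φ ≫ φ = 𝟙 N := IsIso.inv_hom_id φ
  exact congrArg (fun ψ : N ⟶ N => Scheme.Modules.Hom.app ψ U t) h

end

variable {X X' : Scheme.{u}} (h : X' ⟶ X) (F G : X.Modules)

/-- the base change map `h^* 𝓗om(F, G) ⟶ 𝓗om(h^* F, h^* G)`. -/
noncomputable def homBC [G.IsQuasicoherent] (hF : F.IsFinitePresentation) :
    (Scheme.Modules.pullback h).obj (RefHull.homSh F G) ⟶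
      RefHull.homSh ((Scheme.Modules.pullback h).obj F) ((Scheme.Modules.pullback h).obj G) :=
  haveI : F.IsQuasicoherent := inferInstance
  haveI := qc_homSh (G := G) hF
  haveI := QC.qc_pullback h F
  haveI := QC.isIso_pbTensorHom_of_qc h (RefHull.homSh F G) F
  XS.flatR (K := (Scheme.Modules.pullback h).obj F)
    (inv (QC.pbTensorHom h (RefHull.homSh F G) F) ≫
      (Scheme.Modules.pullback h).map (XS.evHom F G))

lemma app_homBC_pbSec [G.IsQuasicoherent] (hF : F.IsFinitePresentation) (U : X.affineOpens)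
    {U' : X'.Opens} (hU' : U' ≤ h ⁻¹ᵁ U.1) (σ : Γ(RefHull.homSh F G, U.1)) (m : Γ(F, U.1)) :
    app ((homBC h F G hF).app U' (QC.pbSec h _ hU' σ)) le_rfl (QC.pbSec h F hU' m) =
      QC.pbSec h G hU' (app σ le_rfl m) := by
  haveI : F.IsQuasicoherent := inferInstance
  haveI := qc_homSh (G := G) hF
  haveI := QC.qc_pullback h F
  haveI := QC.isIso_pbTensorHom_of_qc h (RefHull.homSh F G) F
  have h1 := XS.sharpR_app_tmul (homBC h F G hF) U' (QC.pbSec h _ hU' σ) (QC.pbSec h F hU' m)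
  refine h1.symm.trans ?_
  have h2 : XS.sharpR (homBC h F G hF) = inv (QC.pbTensorHom h (RefHull.homSh F G) F) ≫
      (Scheme.Modules.pullback h).map (XS.evHom F G) := by
    unfold homBC
    exact XS.sharpR_flatR _
  rw [h2]
  have h3 : (inv (QC.pbTensorHom h (RefHull.homSh F G) F)).app U'
      (SecTwist.tmul _ _ U' (QC.pbSec h _ hU' σ) (QC.pbSec h F hU' m)) =
      QC.pbSec h _ hU' (SecTwist.tmul (RefHull.homSh F G) F U.1 σ m) := by
    rw [← QC.pbTensorHom_pbSec h (RefHull.homSh F G) F U hU' σ m, inv_app_app]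
  change ((Scheme.Modules.pullback h).map (XS.evHom F G)).app U'
    ((inv (QC.pbTensorHom h (RefHull.homSh F G) F)).app U' _) = _
  rw [h3, QC.pbSec_naturality, XS.evHom_app_tmul]

set_option maxHeartbeats 1600000 in
/-- the base change map is bijective on sections over an affine open lying over an affine open
on which `F` has a basis. -/
theorem bijective_homBC_app [G.IsQuasicoherent] (hF : F.IsFinitePresentation) {U : X.Opens}
    (hU : IsAffineOpen U) {n : ℕ} {e : Fin n → Γ(F, U)} (he : QC.IsBasisFam F U e)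
    {U' : X'.Opens} (hU'a : IsAffineOpen U') (hU' : U' ≤ h ⁻¹ᵁ U) :
    Function.Bijective ((homBC h F G hF).app U') := by
  haveI : F.IsQuasicoherent := inferInstance
  haveI := qc_homSh (G := G) hF
  haveI : ((Scheme.Modules.pullback h).obj F).IsQuasicoherent := QC.qc_pullback h F
  haveI : ((Scheme.Modules.pullback h).obj G).IsQuasicoherent := QC.qc_pullback h G
  letI := (h.appLE U U' hU').hom.toAlgebra
  obtain ⟨Φ₁, hΦ₁⟩ := QC.exists_pullback_sections_equiv_pbSec h hU'a hU hU' (RefHull.homSh F G)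
  obtain ⟨Φ₂, hΦ₂⟩ := QC.exists_pullback_sections_equiv_pbSec h hU'a hU hU' F
  obtain ⟨Φ₃, hΦ₃⟩ := QC.exists_pullback_sections_equiv_pbSec h hU'a hU hU' G
  have hs : ∀ (K : X.Modules) [K.IsQuasicoherent]
      (Φ : Γ((Scheme.Modules.pullback h).obj K, U') ≃ₗ[Γ(X', U')] (Γ(X', U') ⊗[Γ(X, U)] Γ(K, U)))
      (_ : ∀ m : Γ(K, U), Φ (QC.pbSec h K hU' m) = (1 : Γ(X', U')) ⊗ₜ[Γ(X, U)] m)
      (a : Γ(X', U')) (m : Γ(K, U)), Φ.symm (a ⊗ₜ[Γ(X, U)] m) = a • QC.pbSec h K hU' m := by
    intro K _ Φ hΦ a m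
    rw [LinearEquiv.symm_apply_eq, map_smul, hΦ, TensorProduct.smul_tmul', smul_eq_mul,
      mul_one]
  -- `Γ(F, U)` is finite free
  let ε : (Fin n → Γ(X, U)) →ₗ[Γ(X, U)] Γ(F, U) :=
    Fintype.linearCombination Γ(X, U) (fun i => F.presheaf.map (homOfLE (le_refl U)).op (e i))
  have hε : Function.Bijective ε := by
    have := he U le_rfl
    convert this using 2
    rename_i a
    exact Fintype.linearCombination_apply _ _ _
  let εe : (Fin n → Γ(X, U)) ≃ₗ[Γ(X, U)] Γ(F, U) := LinearEquiv.ofBijective ε hε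
  haveI : Module.Free Γ(X, U) Γ(F, U) := Module.Free.of_equiv εe
  haveI : Module.Finite Γ(X, U) Γ(F, U) := Module.Finite.equiv εe
  let jF := TensorProduct.isBaseChange Γ(X, U) Γ(F, U) Γ(X', U')
  let jG := TensorProduct.isBaseChange Γ(X, U) Γ(G, U) Γ(X', U')
  let k := IsBaseChange.linearMapLeftRight jF jG
  let Ψ : Γ(X', U') ⊗[Γ(X, U)] Γ(RefHull.homSh F G, U) ≃ₗ[Γ(X', U')]
      Γ(RefHull.homSh ((Scheme.Modules.pullback h).obj F) ((Scheme.Modules.pullback h).obj G),
        U') :=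
    (TensorProduct.AlgebraTensorModule.congr (LinearEquiv.refl Γ(X', U') Γ(X', U'))
      (secEquiv (F := F) (G := G) hU)) ≪≫ₗ k.equiv ≪≫ₗ
      (LinearEquiv.arrowCongr Φ₂.symm Φ₃.symm) ≪≫ₗ
      (secEquiv (F := (Scheme.Modules.pullback h).obj F)
        (G := (Scheme.Modules.pullback h).obj G) hU'a).symm
  have key : ∀ w, (homBC h F G hF).app U' (Φ₁.symm w) = Ψ w := by
    intro w
    induction w using TensorProduct.induction_on with
    | zero => simp only [map_zero]
    | add w w' hw hw' => simp only [map_add, hw, hw']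
    | tmul a σ =>
      have e0 : (a ⊗ₜ[Γ(X, U)] σ : Γ(X', U') ⊗[Γ(X, U)] Γ(RefHull.homSh F G, U)) =
          a • ((1 : Γ(X', U')) ⊗ₜ[Γ(X, U)] σ) := by
        rw [TensorProduct.smul_tmul', smul_eq_mul, mul_one]
      rw [e0, map_smul Φ₁.symm, Scheme.Modules.Hom.app_smul, map_smul Ψ, hs _ Φ₁ hΦ₁, one_smul]
      congr 1
      -- compare the two sections of the sheaf Hom over `U'`
      apply (secEquiv (F := (Scheme.Modules.pullback h).obj F)
        (G := (Scheme.Modules.pullback h).obj G) hU'a).injective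
      have e1 : secEquiv hU'a (Ψ ((1 : Γ(X', U')) ⊗ₜ[Γ(X, U)] σ)) =
          LinearEquiv.arrowCongr Φ₂.symm Φ₃.symm
            (IsBaseChange.linearMapLeftRightHom jF (TensorProduct.mk Γ(X, U) Γ(X', U') Γ(G, U) 1)
              (secEquiv hU σ)) := by
        change secEquiv hU'a ((secEquiv hU'a).symm (LinearEquiv.arrowCongr Φ₂.symm Φ₃.symm
          (k.equiv ((TensorProduct.AlgebraTensorModule.congr
            (LinearEquiv.refl Γ(X', U') Γ(X', U')) (secEquiv (F := F) (G := G) hU))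
              ((1 : Γ(X', U')) ⊗ₜ[Γ(X, U)] σ))))) = _
        rw [LinearEquiv.apply_symm_apply, TensorProduct.AlgebraTensorModule.congr_tmul,
          LinearEquiv.refl_apply, IsBaseChange.equiv_tmul, one_smul]
      rw [e1]
      -- both sides are `Γ(X', U')`-linear maps out of `Γ(h^* F, U')`
      apply LinearMap.ext
      intro p
      obtain ⟨w, rfl⟩ := Φ₂.symm.surjective p
      induction w using TensorProduct.induction_on with
      | zero => simp only [map_zero]
      | add w w' hw hw' => simp only [map_add, hw, hw']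
      | tmul b m =>
        have e2 : (b ⊗ₜ[Γ(X, U)] m : Γ(X', U') ⊗[Γ(X, U)] Γ(F, U)) =
            b • ((1 : Γ(X', U')) ⊗ₜ[Γ(X, U)] m) := by
          rw [TensorProduct.smul_tmul', smul_eq_mul, mul_one]
        rw [e2, map_smul, map_smul, map_smul, hs _ Φ₂ hΦ₂, one_smul]
        congr 1
        rw [secEquiv_apply, app_homBC_pbSec h F G hF ⟨U, hU⟩ hU' σ m,
          LinearEquiv.arrowCongr_apply, LinearEquiv.symm_symm, hΦ₂]
        have e3 : (IsBaseChange.linearMapLeftRightHom jF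
            (TensorProduct.mk Γ(X, U) Γ(X', U') Γ(G, U) 1) (secEquiv hU σ))
              ((1 : Γ(X', U')) ⊗ₜ[Γ(X, U)] m) =
            (1 : Γ(X', U')) ⊗ₜ[Γ(X, U)] (secEquiv hU σ m) :=
          IsBaseChange.linearMapLeftRightHom_comp_apply jF
            (TensorProduct.mk Γ(X, U) Γ(X', U') Γ(G, U) 1) (secEquiv hU σ) m
        rw [e3, hs _ Φ₃ hΦ₃, one_smul, secEquiv_apply]
  have hfun : ⇑(ConcreteCategory.hom ((homBC h F G hF).app U')) = Ψ ∘ Φ₁ := by
    funext y
    have := key (Φ₁ y)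
    rw [LinearEquiv.symm_apply_apply] at this
    exact this
  rw [hfun]
  exact Ψ.bijective.comp Φ₁.bijective

/-- **base change for the sheaf Hom out of a finite locally free module.** -/
theorem isIso_homBC [G.IsQuasicoherent] (hF : FlatMod.IsFinLocFree F)
    (hFp : F.IsFinitePresentation) : IsIso (homBC h F G hFp) := by
  apply QC.isIso_of_local_bijective
  intro x' W hxW
  obtain ⟨U₁, n, e, hxU₁, he⟩ := QC.exists_isBasisFam_of_isFinLocFree F hF (h x')
  obtain ⟨U, hU, hxU, hUU₁⟩ := exists_isAffineOpen_mem_and_subset (x := h x') (U := U₁) hxU₁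
  have hUU₁' : U ≤ U₁ := hUU₁
  obtain ⟨U', hU'a, hxU', hU'le⟩ := exists_isAffineOpen_mem_and_subset (x := x')
    (U := W ⊓ h ⁻¹ᵁ U) ⟨hxW, hxU⟩
  have h2 : U' ≤ W := fun y hy => (hU'le hy).1
  have h3 : U' ≤ h ⁻¹ᵁ U := fun y hy => (hU'le hy).2
  exact ⟨U', hxU', h2, bijective_homBC_app h F G hFp hU (he.mono hUU₁') hU'a h3⟩

end Groth.Agent.LD.LF
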