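import Groth.Agent.Lib.Lead.LF.HomBC
import Groth.Agent.Lib.Lead.QC.FinPres
import Mathlib.AlgebraicGeometry.Morphisms.Flat
import Mathlib.Algebra.Module.FinitePresentation
import Mathlib.RingTheory.TensorProduct.IsBaseChangeHom

/-!
# Flat base change for the sheaf Hom out of a finitely presented module

For a flat morphism `h : X' ⟶ X`, `F` finitely presented and `G` quasi-coherent, the canonical
comparison `h^* 𝓗om(F, G) ⟶ 𝓗om(h^* F, h^* G)` is an isomorphism.
-/

universe u
open CategoryTheory Limits AlgebraicGeometry TopologicalSpace Opposite TensorProduct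

namespace Groth.Agent.LD.LF

open Groth.Agent.H2.HomSh Groth.Agent.LD Groth.Agent.LD.PD.HA

attribute [-instance] Groth.Agent.LD.QC.stalkModule

/-- `Hom` out of a finitely presented module commutes with flat base change, in the form of
`IsBaseChange.linearMapLeftRightHom`. -/
theorem isBaseChange_linearMapLeftRightHom_of_flat (R S M N : Type u) [CommRing R] [CommRing S]
    [Algebra R S] [AddCommGroup M] [Module R M] [AddCommGroup N] [Module R N] [Module.Flat R S]
    [Module.FinitePresentation R M] :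
    IsBaseChange S (IsBaseChange.linearMapLeftRightHom (TensorProduct.isBaseChange R M S)
      (TensorProduct.mk R S N 1)) := by
  have h : IsBaseChange.linearMapLeftRightHom (TensorProduct.isBaseChange R M S)
      (TensorProduct.mk R S N 1) = LinearMap.baseChangeHom R S M N := by
    apply LinearMap.ext
    intro f
    apply LinearMap.ext
    intro p
    induction p using TensorProduct.induction_on with
    | zero => simp only [map_zero]
    | add x y hx hy => simp only [map_add, hx, hy]
    | tmul s m =>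
      have e0 : (s ⊗ₜ[R] m : S ⊗[R] M) = s • (TensorProduct.mk R S M 1 m) := by
        rw [TensorProduct.mk_apply, TensorProduct.smul_tmul', smul_eq_mul, mul_one]
      rw [e0, map_smul, map_smul, IsBaseChange.linearMapLeftRightHom_comp_apply]
      simp only [LinearMap.baseChangeHom_apply, TensorProduct.mk_apply, LinearMap.baseChange_tmul]
  rw [h]
  exact Module.FinitePresentation.isBaseChange_map R M N S

variable {X X' : Scheme.{u}} (h : X' ⟶ X) (F G : X.Modules)

set_option maxHeartbeats 1600000 in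
/-- for flat `h` the base change map is bijective on sections over an affine open lying over an
affine open. -/
theorem bijective_homBC_app_of_flat [Flat h] [G.IsQuasicoherent] (hF : F.IsFinitePresentation)
    {U : X.Opens} (hU : IsAffineOpen U)
    {U' : X'.Opens} (hU'a : IsAffineOpen U') (hU' : U' ≤ h ⁻¹ᵁ U) :
    Function.Bijective ((homBC h F G hF).app U') := by
  haveI : F.IsQuasicoherent := inferInstance
  haveI := qc_homSh (G := G) hF
  haveI : ((Scheme.Modules.pullback h).obj F).IsQuasicoherent := QC.qc_pullback h F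
  haveI : ((Scheme.Modules.pullback h).obj G).IsQuasicoherent := QC.qc_pullback h G
  letI := (h.appLE U U' hU').hom.toAlgebra
  obtain ⟨Φ₁, hΦ₁⟩ := QC.exists_pullback_sections_equiv_pbSec h hU'a hU hU' (RefHull.homSh F G)
  obtain ⟨Φ₂, hΦ₂⟩ := QC.exists_pullback_sections_equiv_pbSec h hU'a hU hU' F
  obtain ⟨Φ₃, hΦ₃⟩ := QC.exists_pullback_sections_equiv_pbSec h hU'a hU hU' G
  have hs : ∀ (K : X.Modules) [K.IsQuasicoherent]
      (Φ : Γ((Scheme.Modules.pullback h).obj K, U') ≃ₗ[Γ(X', U')] (Γ(X', U') ⊗[Γ(X, U)] Γ(K, U)))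
      (_ : ∀ m : Γ(K, U), Φ (QC.pbSec h K hU' m) = (1 : Γ(X', U')) ⊗ₜ[Γ(X, U)] m)
      (a : Γ(X', U')) (m : Γ(K, U)), Φ.symm (a ⊗ₜ[Γ(X, U)] m) = a • QC.pbSec h K hU' m := by
    intro K _ Φ hΦ a m
    rw [LinearEquiv.symm_apply_eq, map_smul, hΦ, TensorProduct.smul_tmul', smul_eq_mul,
      mul_one]
  haveI : Module.Flat Γ(X, U) Γ(X', U') := h.flat_appLE hU hU'a hU'
  haveI : Module.FinitePresentation Γ(X, U) Γ(F, U) :=
    QC.finitePresentation_sections_of_isFinitePresentation F hF hU
  let jF := TensorProduct.isBaseChange Γ(X, U) Γ(F, U) Γ(X', U')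
  have k : IsBaseChange Γ(X', U') (IsBaseChange.linearMapLeftRightHom jF
      (TensorProduct.mk Γ(X, U) Γ(X', U') Γ(G, U) 1)) :=
    isBaseChange_linearMapLeftRightHom_of_flat Γ(X, U) Γ(X', U') Γ(F, U) Γ(G, U)
  let Ψ : Γ(X', U') ⊗[Γ(X, U)] Γ(RefHull.homSh F G, U) ≃ₗ[Γ(X', U')]
      Γ(RefHull.homSh ((Scheme.Modules.pullback h).obj F) ((Scheme.Modules.pullback h).obj G),
        U') :=
    (TensorProduct.AlgebraTensorModule.congr (LinearEquiv.refl Γ(X', U') Γ(X', U'))
      (secEquiv (F := F) (G := G) hU)) ≪≫ₗ k.equiv ≪≫ₗ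
      (LinearEquiv.arrowCongr Φ₂.symm Φ₃.symm) ≪≫ₗ
      (secEquiv (F := (Scheme.Modules.pullback h).obj F)
        (G := (Scheme.Modules.pullback h).obj G) hU'a).symm
  have key : ∀ w, (homBC h F G hF).app U' (Φ₁.symm w) = Ψ w := by
    intro w
    induction w using TensorProduct.induction_on with
    | zero => simp only [map_zero]
    | add w w' hw hw' => simp only [map_add, hw, hw']
    | tmul a σ =>
      have e0 : (a ⊗ₜ[Γ(X, U)] σ : Γ(X', U') ⊗[Γ(X, U)] Γ(RefHull.homSh F G, U)) =
          a • ((1 : Γ(X', U')) ⊗ₜ[Γ(X, U)] σ) := by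
        rw [TensorProduct.smul_tmul', smul_eq_mul, mul_one]
      rw [e0, map_smul Φ₁.symm, Scheme.Modules.Hom.app_smul, map_smul Ψ, hs _ Φ₁ hΦ₁, one_smul]
      congr 1
      -- compare the two sections of the sheaf Hom over `U'`
      apply (secEquiv (F := (Scheme.Modules.pullback h).obj F)
        (G := (Scheme.Modules.pullback h).obj G) hU'a).injective
      have e1 : secEquiv hU'a (Ψ ((1 : Γ(X', U')) ⊗ₜ[Γ(X, U)] σ)) =
          LinearEquiv.arrowCongr Φ₂.symm Φ₃.symm
            (IsBaseChange.linearMapLeftRightHom jF (TensorProduct.mk Γ(X, U) Γ(X', U') Γ(G, U) 1)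
              (secEquiv hU σ)) := by
        change secEquiv hU'a ((secEquiv hU'a).symm (LinearEquiv.arrowCongr Φ₂.symm Φ₃.symm
          (k.equiv ((TensorProduct.AlgebraTensorModule.congr
            (LinearEquiv.refl Γ(X', U') Γ(X', U')) (secEquiv (F := F) (G := G) hU))
              ((1 : Γ(X', U')) ⊗ₜ[Γ(X, U)] σ))))) = _
        rw [LinearEquiv.apply_symm_apply, TensorProduct.AlgebraTensorModule.congr_tmul,
          LinearEquiv.refl_apply, IsBaseChange.equiv_tmul, one_smul]
      rw [e1]
      -- both sides are `Γ(X', U')`-linear maps out of `Γ(h^* F, U')`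
      apply LinearMap.ext
      intro p
      obtain ⟨w, rfl⟩ := Φ₂.symm.surjective p
      induction w using TensorProduct.induction_on with
      | zero => simp only [map_zero]
      | add w w' hw hw' => simp only [map_add, hw, hw']
      | tmul b m =>
        have e2 : (b ⊗ₜ[Γ(X, U)] m : Γ(X', U') ⊗[Γ(X, U)] Γ(F, U)) =
            b • ((1 : Γ(X', U')) ⊗ₜ[Γ(X, U)] m) := by
          rw [TensorProduct.smul_tmul', smul_eq_mul, mul_one]
        rw [e2, map_smul, map_smul, map_smul, hs _ Φ₂ hΦ₂, one_smul]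
        congr 1
        rw [secEquiv_apply, app_homBC_pbSec h F G hF ⟨U, hU⟩ hU' σ m,
          LinearEquiv.arrowCongr_apply, LinearEquiv.symm_symm, hΦ₂]
        have e3 : (IsBaseChange.linearMapLeftRightHom jF
            (TensorProduct.mk Γ(X, U) Γ(X', U') Γ(G, U) 1) (secEquiv hU σ))
              ((1 : Γ(X', U')) ⊗ₜ[Γ(X, U)] m) =
            (1 : Γ(X', U')) ⊗ₜ[Γ(X, U)] (secEquiv hU σ m) :=
          IsBaseChange.linearMapLeftRightHom_comp_apply jF
            (TensorProduct.mk Γ(X, U) Γ(X', U') Γ(G, U) 1) (secEquiv hU σ) m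
        rw [e3, hs _ Φ₃ hΦ₃, one_smul, secEquiv_apply]
  have hfun : ⇑(ConcreteCategory.hom ((homBC h F G hF).app U')) = Ψ ∘ Φ₁ := by
    funext y
    have := key (Φ₁ y)
    rw [LinearEquiv.symm_apply_apply] at this
    exact this
  rw [hfun]
  exact Ψ.bijective.comp Φ₁.bijective

/-- **flat base change for the sheaf Hom out of a finitely presented module.** -/
theorem isIso_homBC_of_flat [Flat h] [G.IsQuasicoherent] (hFp : F.IsFinitePresentation) :
    IsIso (homBC h F G hFp) := by
  apply QC.isIso_of_local_bijective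
  intro x' W hxW
  obtain ⟨U, hU, hxU, -⟩ := exists_isAffineOpen_mem_and_subset (x := h x') (U := ⊤) trivial
  obtain ⟨U', hU'a, hxU', hU'le⟩ := exists_isAffineOpen_mem_and_subset (x := x')
    (U := W ⊓ h ⁻¹ᵁ U) ⟨hxW, hxU⟩
  have h2 : U' ≤ W := fun y hy => (hU'le hy).1
  have h3 : U' ≤ h ⁻¹ᵁ U := fun y hy => (hU'le hy).2
  exact ⟨U', hxU', h2, bijective_homBC_app_of_flat h F G hFp hU hU'a h3⟩

end Groth.Agent.LD.LF
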