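import Mathlib
import Groth.Agent.Lib.Lead.NF.Alg

/-! # The injectivity half of the local criterion, without localizing

For a local Noetherian ring `(B, 𝔪)`, a ring map `φ : B → R`, `R`-modules `P`, `Q` with `Q` flat over
`B` and an `R`-linear map `u : P → Q` which is injective modulo `𝔪`: the kernel of `u` is contained
in `(𝔪 R)^n P` for all `n`. -/

set_option autoImplicit false

namespace Groth.Agent.LD.LF

open IsLocalRing

/-- elements of `(span (range d)) • ⊤` are combinations of the `dⱼ`. -/
theorem exists_sum_of_mem_span_smul_top {R P : Type*} [CommRing R] [AddCommGroup P] [Module R P]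
    {r : ℕ} (d : Fin r → R) (s : P)
    (hs : s ∈ (Ideal.span (Set.range d) • ⊤ : Submodule R P)) :
    ∃ p : Fin r → P, s = ∑ j, d j • p j := by
  refine Submodule.smul_induction_on hs ?_ ?_
  · intro a ha n _
    obtain ⟨b, hb⟩ := (Ideal.mem_span_range_iff_exists_fun).1 ha
    refine ⟨fun j => b j • n, ?_⟩
    rw [← hb, Finset.sum_smul]
    refine Finset.sum_congr rfl fun j _ => ?_
    rw [mul_smul, smul_comm]
  · rintro x y ⟨p, rfl⟩ ⟨q, rfl⟩
    refine ⟨fun j => p j + q j, ?_⟩
    rw [← Finset.sum_add_distrib]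
    exact Finset.sum_congr rfl fun j _ => (smul_add _ _ _).symm

/-- **the kernel of a map which is injective modulo `𝔪` into a flat module lies in all
`(𝔪 R)^n P`.** -/
theorem mem_map_pow_smul_top_of_ker {B R P Q : Type*} [CommRing B] [IsLocalRing B]
    [IsNoetherianRing B] [CommRing R] (φ : B →+* R) [AddCommGroup P] [Module R P]
    [AddCommGroup Q] [Module R Q]
    (hQ : @Module.Flat B Q _ _ (Module.compHom Q φ)) (u : P →ₗ[R] Q)
    (hu : ∀ p : P, u p ∈ ((maximalIdeal B).map φ • ⊤ : Submodule R Q) →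
      p ∈ ((maximalIdeal B).map φ • ⊤ : Submodule R P))
    (s : P) (hs : u s = 0) (n : ℕ) :
    s ∈ (((maximalIdeal B).map φ) ^ n • ⊤ : Submodule R P) := by
  induction n with
  | zero =>
    rw [pow_zero, Ideal.one_eq_top, Submodule.top_smul]
    trivial
  | succ n ih =>
    obtain ⟨r, c, hc, hind⟩ := NF.exists_min_gens (maximalIdeal B ^ n) (IsNoetherian.noetherian _)
    have hmap : ((maximalIdeal B).map φ) ^ n = Ideal.span (Set.range (fun j => φ (c j))) := by
      rw [← Ideal.map_pow, ← hc, Ideal.map_span]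
      congr 1
      ext x
      constructor
      · rintro ⟨_, ⟨j, rfl⟩, rfl⟩
        exact ⟨j, rfl⟩
      · rintro ⟨j, rfl⟩
        exact ⟨c j, ⟨j, rfl⟩, rfl⟩
    rw [hmap] at ih
    obtain ⟨p, hp⟩ := exists_sum_of_mem_span_smul_top (fun j => φ (c j)) s ih
    letI : Module B Q := Module.compHom Q φ
    haveI : Module.Flat B Q := hQ
    have h1 : u s = ∑ j, c j • u (p j) := by
      rw [hp, map_sum]
      refine Finset.sum_congr rfl fun j _ => ?_
      rw [map_smul]
      rfl
    have hrel : ∑ j, c j • u (p j) = ∑ i : Fin 0, (Fin.elim0 i : B) • (Fin.elim0 i : Q) := by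
      rw [Fin.sum_univ_zero, ← h1, hs]
    have hpj : ∀ j, p j ∈ ((maximalIdeal B).map φ • ⊤ : Submodule R P) := by
      intro j
      apply hu
      obtain ⟨k, e, y, he, hy⟩ := NF.mem_of_flat_relation (maximalIdeal B)
        (maximalIdeal B * maximalIdeal B ^ n) c (fun i : Fin 0 => Fin.elim0 i)
        (fun i => Fin.elim0 i) hind (fun j => u (p j)) (fun i : Fin 0 => Fin.elim0 i) hrel j
      rw [hy]
      refine Submodule.sum_mem _ fun l _ => ?_
      change φ (e l) • y l ∈ _
      exact Submodule.smul_mem_smul (Ideal.mem_map_of_mem φ (he l)) Submodule.mem_top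
    rw [hp, pow_succ, ← Ideal.smul_eq_mul, Submodule.smul_assoc]
    refine Submodule.sum_mem _ fun j _ => ?_
    refine Submodule.smul_mem_smul ?_ (hpj j)
    rw [hmap]
    exact Ideal.subset_span ⟨j, rfl⟩

end Groth.Agent.LD.LF
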