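import Groth.Agent.Lib.Lead.NF.AdicTriv
import Groth.Agent.Lib.Lead.QC.SuppPullback
import Groth.Agent.Lib.Lead.QC.SuppSES
import Groth.Agent.Lib.Lead.QC.Support
import Groth.Agent.Lib.Lead.QC.SerreSupp
import Groth.Agent.Lib.Lead.QC.Stalk
import Groth.Agent.Lib.Lead.HF.Local
import Groth.Agent.Lib.Helper3.ZClosLib
import Groth.Agent.Lib.Lead.LF.Alg

/-! # Modules on a proper scheme over a local ring are controlled by the closed fibre

For `X` proper over a local ring `B` with closed fibre `i : Z ⟶ X`:
* a module of finite type whose support misses the closed fibre is zero;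
* a morphism into a quasi-coherent module of finite type which is an epimorphism on the closed fibre
  is an epimorphism;
* (`B` Noetherian) a morphism from a coherent module into a coherent module with `B`-flat sections
  which is a monomorphism on the closed fibre is a monomorphism. -/

set_option autoImplicit false
universe u
open CategoryTheory Limits Opposite TopologicalSpace AlgebraicGeometry

namespace Groth.Agent.LD.LF

open Groth.Agent.LD Groth.Agent.H2.FormalQ Groth.Agent.H2.FormalEq

variable {B : Type u} [CommRing B] [IsLocalRing B]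
  {X Z : Scheme.{u}} [X.Over (Spec (CommRingCat.of B))]
  (i : Z ⟶ X) (f' : Z ⟶ Spec (CommRingCat.of (B ⧸ IsLocalRing.maximalIdeal B)))
  (hsq : IsPullback i f' (X ↘ Spec (CommRingCat.of B))
    (Spec.map (CommRingCat.ofHom (algebraMap B (B ⧸ IsLocalRing.maximalIdeal B)))))

include hsq in
/-- points over the closed point lie on the closed fibre. -/
lemma exists_eq_of_closedPoint (x : X)
    (hx : (X ↘ Spec (CommRingCat.of B)).base x = IsLocalRing.closedPoint B) :
    ∃ z : Z, i.base z = x := by
  have hmemZ : IsLocalRing.closedPoint B ∈ PrimeSpectrum.zeroLocus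
      ((RingHom.ker (Ideal.Quotient.mk (IsLocalRing.maximalIdeal B)) : Ideal B) : Set B) := by
    rw [Ideal.mk_ker]
    intro a ha
    exact ha
  rw [← _root_.range_comap_of_surjective _ _ Ideal.Quotient.mk_surjective] at hmemZ
  obtain ⟨pt, hpt⟩ := hmemZ
  obtain ⟨w, hw1, -⟩ := Scheme.exists_preimage_of_isPullback hsq x pt (by
    rw [hx]
    exact hpt.symm)
  exact ⟨w, hw1⟩

include hsq in
/-- **a module of finite type whose support misses the closed fibre is zero.** -/
theorem isZero_of_forall_notMem_support [IsProper (X ↘ Spec (CommRingCat.of B))]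
    (N : X.Modules) (hN : N.IsFiniteType) (h : ∀ z : Z, i.base z ∉ CohB1.support N) :
    IsZero N := by
  apply QC.isZero_of_support_eq_empty
  by_contra hne
  obtain ⟨x, hx⟩ := Set.nonempty_iff_ne_empty.2 hne
  have hcl : IsClosed (CohB1.support N) := QC.isClosed_support_of_isFiniteType N hN
  have hclosed : IsClosed ((X ↘ Spec (CommRingCat.of B)).base '' CohB1.support N) :=
    (X ↘ Spec (CommRingCat.of B)).isClosedMap _ hcl
  have hmem : IsLocalRing.closedPoint B ∈
      (X ↘ Spec (CommRingCat.of B)).base '' CohB1.support N :=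
    (IsLocalRing.specializes_closedPoint _).mem_closed hclosed ⟨x, hx, rfl⟩
  obtain ⟨x', hx', hx'c⟩ := hmem
  obtain ⟨z, hz⟩ := exists_eq_of_closedPoint i f' hsq x' hx'c
  exact h z (hz ▸ hx')

include hsq in
/-- **a morphism into a quasi-coherent module of finite type which is an epimorphism on the
closed fibre is an epimorphism.** -/
theorem epi_of_epi_pullback [IsProper (X ↘ Spec (CommRingCat.of B))]
    {F G : X.Modules} [F.IsQuasicoherent] [G.IsQuasicoherent] (hG : G.IsFiniteType)
    (u : F ⟶ G) (hu : Epi ((Scheme.Modules.pullback i).map u)) : Epi u := by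
  haveI hC : (cokernel u).IsQuasicoherent := QC.qc_cokernel u inferInstance inferInstance
  have hCft : (cokernel u).IsFiniteType :=
    QC.isFiniteType_of_epi (cokernel.π u) inferInstance hC hG
  rw [Preadditive.epi_iff_isZero_cokernel]
  apply isZero_of_forall_notMem_support i f' hsq _ hCft
  intro z hz
  exact hz ((QC.epi_pullback_iff i hG u).1 hu z)

include hsq in
/-- the sections coming from the maximal ideal vanish on the closed fibre. -/
lemma app_eq_zero_of_mem_map (U : X.Opens) (r : Γ(X, U))
    (hr : r ∈ Ideal.map (φU (A := B) U) (IsLocalRing.maximalIdeal B)) :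
    (i.app U).hom r = 0 := by
  have hle : Ideal.map (φU (A := B) (X := X) U) (IsLocalRing.maximalIdeal B) ≤
      RingHom.ker (i.app U).hom := by
    rw [Ideal.map_le_iff_le_comap]
    intro a ha
    rw [Ideal.mem_comap, RingHom.mem_ker]
    have h0 : i.appTop (Coh.toGlobal (X ↘ Spec (CommRingCat.of B)) a) = 0 := by
      rw [FBC.toGlobal_compat _ f' i hsq a]
      have h4 : algebraMap B (B ⧸ IsLocalRing.maximalIdeal B) a = 0 :=
        Ideal.Quotient.eq_zero_iff_mem.2 ha
      rw [h4]
      exact map_zero _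
    have h1 := congr($(i.naturality (homOfLE (le_top : U ≤ ⊤)).op)
      (Coh.toGlobal (X ↘ Spec (CommRingCat.of B)) a))
    change (i.app U).hom (X.presheaf.map (homOfLE (le_top : U ≤ ⊤)).op
      (Coh.toGlobal (X ↘ Spec (CommRingCat.of B)) a)) = 0
    refine h1.trans ?_
    change Z.presheaf.map _ (i.appTop (Coh.toGlobal (X ↘ Spec (CommRingCat.of B)) a)) = 0
    rw [h0, map_zero]
  exact hle hr

include hsq in
/-- **a morphism from a coherent module to a coherent module with `B`-flat sections which is a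
monomorphism on the closed fibre is a monomorphism.** -/
theorem mono_of_mono_pullback [IsNoetherianRing B] [IsProper (X ↘ Spec (CommRingCat.of B))]
    {F G : X.Modules} (hF : Coh.IsCoh F) (hG : Coh.IsCoh G)
    (hGfl : ∀ x : X, ∃ U : X.Opens, IsAffineOpen U ∧ x ∈ U ∧ NF.FlatSec B G U)
    (u : F ⟶ G) (hu : Mono ((Scheme.Modules.pullback i).map u)) : Mono u := by
  haveI : IsLocallyNoetherian X :=
    LocallyOfFiniteType.isLocallyNoetherian (X ↘ Spec (CommRingCat.of B))
  haveI := hF.1
  haveI := hG.1
  haveI : IsClosedImmersion i :=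
    Groth.Agent.H5.RelC.isClosedImmersion_of_isPullback (IsLocalRing.maximalIdeal B) f' i hsq
  letI : Z.Over (Spec (CommRingCat.of B)) := ⟨i ≫ (X ↘ Spec (CommRingCat.of B))⟩
  haveI : i.IsOver (Spec (CommRingCat.of B)) := ⟨rfl⟩
  obtain ⟨𝔪, h𝔪⟩ : ∃ 𝔪 : Ideal B, 𝔪 = IsLocalRing.maximalIdeal B := ⟨_, rfl⟩
  -- the reduction modulo `𝔪` is a monomorphism
  have hkF : Formal.KilledBy 𝔪 (Formal.modPow 𝔪 1 F) := by
    have := killedBy_modPow 𝔪 1 F
    rwa [pow_one] at this
  have hkG : Formal.KilledBy 𝔪 (Formal.modPow 𝔪 1 G) := by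
    have := killedBy_modPow 𝔪 1 G
    rwa [pow_one] at this
  haveI hQF : (Formal.modPow 𝔪 1 F).IsQuasicoherent := (isCoh_modPow 𝔪 1 hF).1
  haveI hQG : (Formal.modPow 𝔪 1 G).IsQuasicoherent := (isCoh_modPow 𝔪 1 hG).1
  haveI hηF : IsIso ((Scheme.Modules.pullbackPushforwardAdjunction i).unit.app
      (Formal.modPow 𝔪 1 F)) := by
    subst h𝔪
    exact Groth.Agent.H5.RelC.isIso_unit_of_killedBy _ f' i hsq _ hkF
  haveI hπF : IsIso ((Scheme.Modules.pullback i).map (Formal.modPowπ 𝔪 1 F)) := by
    subst h𝔪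
    exact NF.isIso_pullback_map_modPowπ _ i f' hsq _ 1 (pow_one _).symm F
  haveI hπG : IsIso ((Scheme.Modules.pullback i).map (Formal.modPowπ 𝔪 1 G)) := by
    subst h𝔪
    exact NF.isIso_pullback_map_modPowπ _ i f' hsq _ 1 (pow_one _).symm G
  obtain ⟨ū, hū⟩ : ∃ ū : Formal.modPow 𝔪 1 F ⟶ Formal.modPow 𝔪 1 G,
      Formal.modPowπ 𝔪 1 F ≫ ū = u ≫ Formal.modPowπ 𝔪 1 G :=
    ⟨modPowMap 𝔪 1 u, modPowπ_modPowMap 𝔪 1 u⟩
  haveI hmū : Mono ū := by
    have h1 : (Scheme.Modules.pullback i).map ū =
        inv ((Scheme.Modules.pullback i).map (Formal.modPowπ 𝔪 1 F)) ≫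
          (Scheme.Modules.pullback i).map u ≫
            (Scheme.Modules.pullback i).map (Formal.modPowπ 𝔪 1 G) := by
      rw [IsIso.eq_inv_comp, ← Functor.map_comp, ← Functor.map_comp, hū]
    haveI : Mono ((Scheme.Modules.pullback i).map ū) := by
      rw [h1]
      infer_instance
    haveI : (Scheme.Modules.pushforward i).PreservesMonomorphisms :=
      Functor.preservesMonomorphisms_of_adjunction
        (Scheme.Modules.pullbackPushforwardAdjunction i)
    have h2 : ū ≫ (Scheme.Modules.pullbackPushforwardAdjunction i).unit.app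
        (Formal.modPow 𝔪 1 G) =
        (Scheme.Modules.pullbackPushforwardAdjunction i).unit.app (Formal.modPow 𝔪 1 F) ≫
          (Scheme.Modules.pushforward i).map ((Scheme.Modules.pullback i).map ū) :=
      (Scheme.Modules.pullbackPushforwardAdjunction i).unit.naturality ū
    haveI : Mono (ū ≫ (Scheme.Modules.pullbackPushforwardAdjunction i).unit.app
        (Formal.modPow 𝔪 1 G)) := by
      rw [h2]
      infer_instance
    exact mono_of_mono ū ((Scheme.Modules.pullbackPushforwardAdjunction i).unit.app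
      (Formal.modPow 𝔪 1 G))
  -- the kernel vanishes
  have hK : Coh.IsCoh (kernel u) := QC.isCoh_kernel u hF hG
  haveI := hK.1
  have hKzero : IsZero (kernel u) := by
    apply isZero_of_forall_notMem_support i f' hsq _ hK.2
    intro z hsupp
    obtain ⟨U, hU, hxU, hfl⟩ := hGfl (i.base z)
    haveI : IsNoetherianRing Γ(X, U) := IsLocallyNoetherian.component_noetherian ⟨U, hU⟩
    haveI : Module.Finite Γ(X, U) Γ(F, U) := QC.finite_sections_of_isFiniteType F hF.2 hU
    have h1 := (QC.mem_support_iff_not_subsingleton_stalk (kernel u) hU (i.base z) hxU).mpr hsupp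
    rw [Module.mem_support_iff_exists_annihilator] at h1
    obtain ⟨m, hm⟩ := h1
    let uL : Γ(F, U) →ₗ[Γ(X, U)] Γ(G, U) :=
      { toFun := u.app U
        map_add' := map_add _
        map_smul' := fun r t => Scheme.Modules.Hom.app_smul u r t }
    obtain ⟨s, hs⟩ : ∃ s : Γ(F, U), s = (kernel.ι u).app U m := ⟨_, rfl⟩
    have hus : uL s = 0 := by
      rw [hs]
      change (kernel.ι u ≫ u).app U m = 0
      rw [kernel.condition]
      rfl
    have hinjū : Function.Injective (ū.app U) :=
      Groth.Agent.H3.ZClosLib.app_injective_of_mono ū U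
    have hukey : ∀ p : Γ(F, U),
        uL p ∈ ((IsLocalRing.maximalIdeal B).map (φU (A := B) U) • ⊤ :
          Submodule Γ(X, U) Γ(G, U)) →
        p ∈ ((IsLocalRing.maximalIdeal B).map (φU (A := B) U) • ⊤ :
          Submodule Γ(X, U) Γ(F, U)) := by
      intro p hp
      rw [← h𝔪] at hp ⊢
      have h3 : (Formal.modPowπ 𝔪 1 G).app U (u.app U p) = 0 := by
        change (Formal.modPowπ 𝔪 1 G).app U (uL p) = 0
        refine Submodule.smul_induction_on hp ?_ ?_
        · intro r hr n _
          rw [Scheme.Modules.Hom.app_smul]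
          exact HF.smul_eq_zero_of_mem_map_pow 𝔪 1 (killedBy_modPow 𝔪 1 G) U r
            (by rwa [pow_one]) _
        · intro x y hx hy
          rw [map_add, hx, hy, add_zero]
      have h4 : ū.app U ((Formal.modPowπ 𝔪 1 F).app U p) = 0 := by
        have := congr($(hū).app U p)
        exact this.trans h3
      have h5 : (Formal.modPowπ 𝔪 1 F).app U p = 0 := hinjū (h4.trans (map_zero _).symm)
      have h6 := HF.mem_of_modPowπ_eq_zero 𝔪 F hF hU 1 p h5
      rwa [pow_one] at h6
    have hall : ∀ n : ℕ, s ∈ (((IsLocalRing.maximalIdeal B).map (φU (A := B) U)) ^ n • ⊤ :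
        Submodule Γ(X, U) Γ(F, U)) :=
      mem_map_pow_smul_top_of_ker (φU (A := B) U) hfl uL hukey s hus
    have hinf : s ∈ (⨅ n : ℕ, ((IsLocalRing.maximalIdeal B).map (φU (A := B) U)) ^ n • ⊤ :
        Submodule Γ(X, U) Γ(F, U)) := (Submodule.mem_iInf _).2 hall
    obtain ⟨r, hr⟩ := (Ideal.mem_iInf_smul_pow_eq_bot_iff _ s).1 hinf
    have hinjι : Function.Injective ((kernel.ι u).app U) :=
      Groth.Agent.H3.ZClosLib.app_injective_of_mono (kernel.ι u) U
    have hkill : (1 - (r : Γ(X, U))) • m = 0 := by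
      apply hinjι
      rw [Scheme.Modules.Hom.app_smul, ← hs, sub_smul, one_smul, hr, sub_self, map_zero]
    have hbo : i.base z ∈ X.basicOpen (1 - (r : Γ(X, U))) := by
      have h7 : z ∈ i ⁻¹ᵁ X.basicOpen (1 - (r : Γ(X, U))) := by
        rw [Scheme.preimage_basicOpen]
        have h8 : (i.app U).hom (1 - (r : Γ(X, U))) = 1 := by
          rw [map_sub, map_one, app_eq_zero_of_mem_map i f' hsq U r r.2, sub_zero]
        have h9 : Z.basicOpen ((i.app U).hom (1 - (r : Γ(X, U)))) = i ⁻¹ᵁ U := by
          rw [h8]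
          exact Scheme.basicOpen_of_isUnit _ isUnit_one
        change z ∈ Z.basicOpen ((i.app U).hom (1 - (r : Γ(X, U))))
        rw [h9]
        exact hxU
      exact h7
    refine (QC.mem_primeCompl_of_mem_basicOpen hU (i.base z) hxU _ hbo) (hm ?_)
    rw [Submodule.mem_annihilator_span_singleton]
    exact hkill
  apply Preadditive.mono_of_cancel_zero
  intro W g hg
  rw [← kernel.lift_ι u g hg]
  rw [hKzero.eq_of_tgt (kernel.lift u g hg) 0, zero_comp]

end Groth.Agent.LD.LF
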