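import Groth.Agent.Lib.Lead.GE.TwistModPow
import Groth.Agent.Lib.Lead.QC.TwistExt
import Groth.Agent.Lib.Lead.QC.FreeData

/-! # `M ↦ M / K M` commutes with right exact `A`-linear functors -/

set_option autoImplicit false
universe u
open CategoryTheory Limits Opposite TopologicalSpace AlgebraicGeometry

namespace Groth.Agent.LD.LF
open Groth.Agent.LD.FF Groth.Agent.LD Groth.Agent.LD.GE

variable {A : Type u} [CommRing A] {X : Scheme.{u}} [X.Over (Spec (CommRingCat.of A))]

/-- **`T(M) / K T(M) ≅ T(M / K M)`** for a finitely generated ideal `K` and an additive right exact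
functor `T` commuting with the multiplications by elements of `A`, compatibly with the
projections. -/
theorem exists_cokernel_smulFamily_map_iso (T : X.Modules ⥤ X.Modules) [T.Additive]
    [PreservesFiniteColimits T]
    (hT : ∀ (M : X.Modules) (a : A),
      T.map (Formal.smulMod A M a) = Formal.smulMod A (T.obj M) a)
    (K : Ideal A) (hK : K.FG) (M : X.Modules) :
    ∃ e : cokernel (Formal.smulFamily K (T.obj M)) ≅ T.obj (cokernel (Formal.smulFamily K M)),
      cokernel.π (Formal.smulFamily K (T.obj M)) ≫ e.hom =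
        T.map (cokernel.π (Formal.smulFamily K M)) := by
  obtain ⟨S, hS⟩ := hK
  let c : Fin S.card → A := fun i => (S.equivFin.symm i : A)
  have hc : Ideal.span (Set.range c) = K := by
    rw [← hS]
    congr 1
    ext x
    constructor
    · rintro ⟨i, rfl⟩
      exact (S.equivFin.symm i).2
    · intro hx
      exact ⟨S.equivFin ⟨x, hx⟩, by simp [c]⟩
  have hcK : ∀ j, c j ∈ K := fun j => hc ▸ Ideal.subset_span ⟨j, rfl⟩
  have hπ : ∀ (N : X.Modules) (a : A), a ∈ K →
      Formal.smulMod A N a ≫ cokernel.π (Formal.smulFamily K N) = 0 := fun N a ha => by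
    rw [← ι_σ K N ⟨a, ha⟩, Category.assoc, cokernel.condition, comp_zero]
  -- the map `α`
  have h1 : Formal.smulFamily K (T.obj M) ≫ T.map (cokernel.π (Formal.smulFamily K M)) = 0 := by
    apply kills_of_gens c hc
    intro j
    rw [← hT, ← T.map_comp, hπ M _ (hcK j), T.map_zero]
  -- exactness of the finite presentation
  let Φ : (∐ fun _ : Fin S.card => M) ⟶ M := Sigma.desc (fun j => Formal.smulMod A M (c j))
  have hιΦ : ∀ j, Sigma.ι (fun _ : Fin S.card => M) j ≫ Φ = Formal.smulMod A M (c j) :=
    fun j => Sigma.ι_desc _ _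
  have hΦπ : Φ ≫ cokernel.π (Formal.smulFamily K M) = 0 := by
    apply Sigma.hom_ext
    intro j
    rw [← Category.assoc, hιΦ, hπ M _ (hcK j), comp_zero]
  have hcok : IsColimit (CokernelCofork.ofπ (cokernel.π (Formal.smulFamily K M)) hΦπ) :=
    CokernelCofork.IsColimit.ofπ' _ hΦπ (fun {Z} ψ hψ =>
      ⟨cokernel.desc (Formal.smulFamily K M) ψ (kills_of_gens c hc ψ (fun j => by
        rw [← hιΦ, Category.assoc, hψ, comp_zero])), cokernel.π_desc _ _ _⟩)
  have hex : (ShortComplex.mk Φ (cokernel.π (Formal.smulFamily K M)) hΦπ).Exact :=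
    ShortComplex.exact_of_g_is_cokernel _ hcok
  have hex' : ((ShortComplex.mk Φ (cokernel.π (Formal.smulFamily K M)) hΦπ).map T).Exact :=
    hex.map_of_epi_of_preservesCokernel T
      (inferInstanceAs (Epi (cokernel.π (Formal.smulFamily K M)))) inferInstance
  haveI hepi : Epi ((ShortComplex.mk Φ (cokernel.π (Formal.smulFamily K M)) hΦπ).map T).g :=
    inferInstanceAs (Epi (T.map (cokernel.π (Formal.smulFamily K M))))
  -- the map `β`
  have h2 : ((ShortComplex.mk Φ (cokernel.π (Formal.smulFamily K M)) hΦπ).map T).f ≫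
      cokernel.π (Formal.smulFamily K (T.obj M)) = 0 := by
    change T.map Φ ≫ _ = 0
    have e : T.map Φ = ∑ j, T.map (SC.sigmaProj M S.card j) ≫
        Formal.smulMod A (T.obj M) (c j) := by
      have h0 := congrArg (fun φ => T.map (φ ≫ Φ)) (SC.sigmaProj_total M S.card)
      simp only [Category.id_comp, Preadditive.sum_comp, Category.assoc] at h0
      rw [← h0, Functor.map_sum]
      refine Finset.sum_congr rfl fun j _ => ?_
      rw [hιΦ, T.map_comp, hT]
    rw [e, Preadditive.sum_comp]
    refine Finset.sum_eq_zero fun j _ => ?_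
    rw [Category.assoc, hπ _ _ (hcK j), comp_zero]
  have hβ := hex'.g_desc (cokernel.π (Formal.smulFamily K (T.obj M))) h2
  refine ⟨⟨cokernel.desc _ _ h1, hex'.desc _ h2, ?_, ?_⟩, cokernel.π_desc _ _ _⟩
  · rw [← cancel_epi (cokernel.π (Formal.smulFamily K (T.obj M))),
      cokernel.π_desc_assoc, Category.comp_id]
    exact hβ
  · haveI hepi' : Epi (T.map (cokernel.π (Formal.smulFamily K M))) := hepi
    have hβ' : T.map (cokernel.π (Formal.smulFamily K M)) ≫
        hex'.desc (cokernel.π (Formal.smulFamily K (T.obj M))) h2 =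
        cokernel.π (Formal.smulFamily K (T.obj M)) := hβ
    rw [← cancel_epi (T.map (cokernel.π (Formal.smulFamily K M))), reassoc_of% hβ',
      cokernel.π_desc, Category.comp_id]

/-- multiplication by `a` on `M ⊗ P` is `(multiplication by a on M) ⊗ P`, for any `P`. -/
lemma twF_map_smulMod (P M : X.Modules) (a : A) :
    (QC.twF P).map (Formal.smulMod A M a) = Formal.smulMod A ((QC.twF P).obj M) a := by
  rw [QC.twF_map]
  apply QC.hom_ext_tmul
  intro U m p
  rw [KoszTw.tensorMap_tmul, Stein.smulMod_app]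
  erw [Stein.smulMod_app]
  rw [QC.tmul_smul_left]
  rfl

/-- **`(M ⊗ P) / I^n (M ⊗ P) ≅ (M / I^n M) ⊗ P`** for any module `P`, compatibly with the
projections. -/
theorem exists_modPow_tensor_iso (I : Ideal A) (hI : I.FG) (n : ℕ) (M P : X.Modules) :
    ∃ e : Formal.modPow I n (CohB1.tensorMod M P) ≅ CohB1.tensorMod (Formal.modPow I n M) P,
      Formal.modPowπ I n (CohB1.tensorMod M P) ≫ e.hom =
        KoszTw.tensorMap (Formal.modPowπ I n M) (𝟙 P) := by
  obtain ⟨e, he⟩ := exists_cokernel_smulFamily_map_iso (QC.twF P) (twF_map_smulMod P)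
    (I ^ n) (Ideal.FG.pow hI) M
  refine ⟨e, ?_⟩
  rw [← QC.twF_map]
  exact he

end Groth.Agent.LD.LF
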