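import Groth.Agent.Lib.Lead.LF.Fibre
import Groth.Agent.Lib.Lead.LF.Quot
import Groth.Agent.Lib.Lead.NF.Local
import Groth.Agent.Lib.Lead.QC.LiftSqZero
import Groth.Agent.Lib.Lead.EZ.ExtLocFree
import Groth.Agent.Lib.Lead.XS.DualIso
import Groth.Agent.Lib.Lead.HF.Killed
import Groth.Agent.Lib.Helper5.ExtG1.A
import Groth.Agent.Lib.Lead.QC.ResolProp
import Groth.Agent.H4.RT4
import Groth.Agent.H4.PSch4

/-! # Lifting homomorphisms of finite locally free modules from the closed fibre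

For `X` proper and flat over a Noetherian local ring `B` with closed fibre `i : Z ⟶ X`, and finite
locally free modules `F`, `G` with `Ext¹_Z(i^*F, i^*G) = 0`: every homomorphism `i^*F ⟶ i^*G` is the
restriction of a homomorphism `F ⟶ G`. -/

set_option autoImplicit false
universe u
open CategoryTheory Limits Opposite TopologicalSpace AlgebraicGeometry

namespace Groth.Agent.LD.LF

open Groth.Agent.LD Groth.Agent.H2.FormalQ Groth.Agent.H2.FormalEq

section Flat

variable {B : Type u} [CommRing B] {X : Scheme.{u}} [X.Over (Spec (CommRingCat.of B))]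

/-- over a flat scheme, the sections of a module over an affine open over which it is free are flat
over the base ring. -/
lemma flatSec_of_linearEquiv [Flat (X ↘ Spec (CommRingCat.of B))] (N : X.Modules) {U : X.Opens}
    (hU : IsAffineOpen U) {n : ℕ} (φ : Γ(N, U) ≃ₗ[Γ(X, U)] (Fin n → Γ(X, U))) :
    NF.FlatSec B N U := by
  letI : Module B Γ(N, U) := Module.compHom _ (φU (A := B) U)
  have hfl : (φU (A := B) (X := X) U).Flat := by
    have h1 : (φU (A := B) (X := X) U) =
        ((X ↘ Spec (CommRingCat.of B)).appLE ⊤ U le_top).hom.comp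
          (Scheme.ΓSpecIso (CommRingCat.of B)).inv.hom := rfl
    rw [h1]
    exact RingHom.Flat.comp
      (RingHom.Flat.of_bijective (ConcreteCategory.bijective_of_isIso _))
      (Scheme.Hom.flat_appLE _ (isAffineOpen_top _) hU le_top)
  letI : Algebra B Γ(X, U) := (φU (A := B) U).toAlgebra
  haveI : Module.Flat B Γ(X, U) := hfl
  haveI : IsScalarTower B Γ(X, U) Γ(N, U) := IsScalarTower.of_algebraMap_smul fun b s => rfl
  haveI : Module.Flat Γ(X, U) Γ(N, U) := Module.Flat.of_linearEquiv φ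
  exact Module.Flat.trans B Γ(X, U) Γ(N, U)

/-- a finite locally free module on a flat scheme has `B`-flat sections over arbitrarily small
affine opens. -/
lemma exists_flatSec_of_isFinLocFree [Flat (X ↘ Spec (CommRingCat.of B))] (N : X.Modules)
    (hN : FlatMod.IsFinLocFree N) (W : X.Opens) (x : X) (hx : x ∈ W) :
    ∃ U : X.Opens, IsAffineOpen U ∧ x ∈ U ∧ U ≤ W ∧ NF.FlatSec B N U := by
  haveI := QC.qc_of_isFinLocFree N hN
  obtain ⟨U, n, hU, hxU, hUW, ⟨φ⟩⟩ := RP2.exists_affine_equiv_of_isFinLocFree N hN W x hx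
  exact ⟨U, hU, hxU, hUW, flatSec_of_linearEquiv N hU φ⟩

end Flat

section Lift

variable {B : Type u} [CommRing B] [IsLocalRing B] [IsNoetherianRing B]
  {X Z : Scheme.{u}} [X.Over (Spec (CommRingCat.of B))]
  (i : Z ⟶ X) (f' : Z ⟶ Spec (CommRingCat.of (B ⧸ IsLocalRing.maximalIdeal B)))
  (hsq : IsPullback i f' (X ↘ Spec (CommRingCat.of B))
    (Spec.map (CommRingCat.ofHom (algebraMap B (B ⧸ IsLocalRing.maximalIdeal B)))))
  [IsProper (X ↘ Spec (CommRingCat.of B))] [Flat (X ↘ Spec (CommRingCat.of B))]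
  [HasExt.{u} X.Modules] [HasExt.{u} Z.Modules] [EnoughInjectives X.Modules]

include hsq in
/-- **homomorphisms into `G/𝔪G` lift to `G`** when `Ext¹` vanishes on the closed fibre. -/
theorem exists_hom_comp_modPowπ_eq (F G : X.Modules) (hF : FlatMod.IsFinLocFree F)
    (hG : FlatMod.IsFinLocFree G)
    (h : Subsingleton (Abelian.Ext.{u} ((Scheme.Modules.pullback i).obj F)
      ((Scheme.Modules.pullback i).obj G) 1))
    (v : F ⟶ Formal.modPow (IsLocalRing.maximalIdeal B) 1 G) :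
    ∃ u : F ⟶ G, u ≫ Formal.modPowπ (IsLocalRing.maximalIdeal B) 1 G = v := by
  haveI : IsClosedImmersion i :=
    Groth.Agent.H5.RelC.isClosedImmersion_of_isPullback (IsLocalRing.maximalIdeal B) f' i hsq
  letI : Z.Over (Spec (CommRingCat.of B)) := ⟨i ≫ (X ↘ Spec (CommRingCat.of B))⟩
  haveI : i.IsOver (Spec (CommRingCat.of B)) := ⟨rfl⟩
  haveI : IsLocallyNoetherian X :=
    LocallyOfFiniteType.isLocallyNoetherian (X ↘ Spec (CommRingCat.of B))
  haveI hFq : F.IsQuasicoherent := QC.qc_of_isFinLocFree F hF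
  haveI hGq : G.IsQuasicoherent := QC.qc_of_isFinLocFree G hG
  have hGc : Coh.IsCoh G := Groth.Agent.H4.PSch4.isCoh_of_isFinLocFree G hG
  have hD : FlatMod.IsFinLocFree (XS.DI.Dl F) :=
    HF.isFinLocFree_homSh F (QC.unitMod X) hF
      (QC.isFinLocFree_of_isInvertible _ (QC.isInvertible_unit X))
  have hℋ : FlatMod.IsFinLocFree (CohB1.tensorMod G (XS.DI.Dl F)) :=
    Groth.Agent.H4.RT4.isFinLocFree_tensor G (XS.DI.Dl F) hG hD
  have hℋc : Coh.IsCoh (CohB1.tensorMod G (XS.DI.Dl F)) :=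
    Groth.Agent.H4.PSch4.isCoh_of_isFinLocFree _ hℋ
  -- the quotient `Q = G/𝔪G`
  have hQc : Coh.IsCoh (Formal.modPow (IsLocalRing.maximalIdeal B) 1 G) :=
    isCoh_modPow (IsLocalRing.maximalIdeal B) 1 hGc
  haveI := hQc.1
  have hkQ : Formal.KilledBy (IsLocalRing.maximalIdeal B)
      (Formal.modPow (IsLocalRing.maximalIdeal B) 1 G) := by
    have := killedBy_modPow (IsLocalRing.maximalIdeal B) 1 G
    rwa [pow_one] at this
  haveI hηQ : IsIso ((Scheme.Modules.pullbackPushforwardAdjunction i).unit.app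
      (Formal.modPow (IsLocalRing.maximalIdeal B) 1 G)) :=
    Groth.Agent.H5.RelC.isIso_unit_of_killedBy _ f' i hsq _ hkQ
  haveI hπG : IsIso ((Scheme.Modules.pullback i).map
      (Formal.modPowπ (IsLocalRing.maximalIdeal B) 1 G)) :=
    NF.isIso_pullback_map_modPowπ _ i f' hsq _ 1 (pow_one _).symm G
  -- vanishing of `Ext¹(F, Q)`
  haveI : ((Scheme.Modules.pullback i).obj G).IsQuasicoherent := QC.qc_pullback i G
  have hE1 : Subsingleton (Abelian.Ext.{u} F ((Scheme.Modules.pushforward i).obj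
      ((Scheme.Modules.pullback i).obj G)) 1) :=
    QC.LiftSqZero.subsingleton_ext_one_push i F hF _ h
  let ε : Formal.modPow (IsLocalRing.maximalIdeal B) 1 G ≅
      (Scheme.Modules.pushforward i).obj ((Scheme.Modules.pullback i).obj G) :=
    asIso ((Scheme.Modules.pullbackPushforwardAdjunction i).unit.app
      (Formal.modPow (IsLocalRing.maximalIdeal B) 1 G)) ≪≫
      (Scheme.Modules.pushforward i).mapIso (asIso ((Scheme.Modules.pullback i).map
        (Formal.modPowπ (IsLocalRing.maximalIdeal B) 1 G))).symm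
  have hE2 : Subsingleton (Abelian.Ext.{u} F
      (Formal.modPow (IsLocalRing.maximalIdeal B) 1 G) 1) :=
    (QC.extEquivRight F ε 1).toEquiv.subsingleton
  -- vanishing of `H¹(X, (G ⊗ F^∨)/𝔪)`
  haveI : DCoh.HasSheafHom F := Groth.Agent.H5.ExtG1.hasSheafHom_of_qc F
  obtain ⟨eE⟩ := EZ.nonempty_ext_addEquiv_HH_sheafHom F
    (Formal.modPow (IsLocalRing.maximalIdeal B) 1 G) hF 1
  have hH1a : Subsingleton (Coh.HH X ((DCoh.sheafHom F).obj
      (Formal.modPow (IsLocalRing.maximalIdeal B) 1 G)) 1) := eE.symm.toEquiv.subsingleton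
  let e3 : (DCoh.sheafHom F).obj (Formal.modPow (IsLocalRing.maximalIdeal B) 1 G) ≅
      RefHull.homSh F (Formal.modPow (IsLocalRing.maximalIdeal B) 1 G) :=
    ((DCoh.sheafHomAdj F).rightAdjointUniq ((XS.adjR F).ofNatIsoLeft (XS.ltIso F).symm)).app
      (Formal.modPow (IsLocalRing.maximalIdeal B) 1 G)
  haveI hθQ := XS.DI.isIso_theta F (Formal.modPow (IsLocalRing.maximalIdeal B) 1 G) hF
  haveI hθG := XS.DI.isIso_theta F G hF
  obtain ⟨e1, he1⟩ := exists_modPow_tensor_iso (IsLocalRing.maximalIdeal B)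
    (IsNoetherian.noetherian _) 1 G (XS.DI.Dl F)
  have hH1 : Subsingleton (Coh.HH X (Formal.modPow (IsLocalRing.maximalIdeal B) 1
      (CohB1.tensorMod G (XS.DI.Dl F))) 1) :=
    Groth.Agent.H5.GG.subsingleton_HH_of_iso
      (e1 ≪≫ asIso (XS.DI.theta F (Formal.modPow (IsLocalRing.maximalIdeal B) 1 G)) ≪≫
        e3.symm) 1 hH1a
  -- surjectivity on global sections
  have hsurj := NF.surjective_modPowπ_one_app_top (CohB1.tensorMod G (XS.DI.Dl F)) hℋc
    {U | IsAffineOpen U ∧ NF.FlatSec B (CohB1.tensorMod G (XS.DI.Dl F)) U}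
    (fun U hU => hU.1) (fun U hU => hU.2)
    (fun W x hx => by
      obtain ⟨U, hUa, hxU, hUW, hfl⟩ := exists_flatSec_of_isFinLocFree (B := B) _ hℋ W x hx
      exact ⟨U, ⟨hUa, hfl⟩, hxU, hUW⟩) hH1
  -- the chase
  obtain ⟨t, ht⟩ := (QC.app_bijective_of_isIso
    (XS.DI.theta F (Formal.modPow (IsLocalRing.maximalIdeal B) 1 G)) ⊤).2 (RefHull.ofHom v ⊤)
  obtain ⟨t', ht'⟩ := (QC.app_bijective_of_isIso e1.hom ⊤).2 t
  obtain ⟨w, hw⟩ := hsurj t'
  refine ⟨HF.homOfSec ((XS.DI.theta F G).app ⊤ w), ?_⟩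
  apply HF.ofHom_top_injective
  change RefHull.ofHom (HF.homOfSec ((XS.DI.theta F G).app ⊤ w) ≫
    Formal.modPowπ (IsLocalRing.maximalIdeal B) 1 G) ⊤ = RefHull.ofHom v ⊤
  rw [← HF.postSec_ofHom, HF.ofHom_homOfSec, ← HF.postHom_app]
  have hnat := congr($(XS.DI.theta_natural F
    (Formal.modPowπ (IsLocalRing.maximalIdeal B) 1 G)).app ⊤ w)
  refine hnat.symm.trans ?_
  change (XS.DI.theta F (Formal.modPow (IsLocalRing.maximalIdeal B) 1 G)).app ⊤
    ((KoszTw.tensorMap (Formal.modPowπ (IsLocalRing.maximalIdeal B) 1 G)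
      (𝟙 (XS.DI.Dl F))).app ⊤ w) = _
  rw [← he1]
  change (XS.DI.theta F (Formal.modPow (IsLocalRing.maximalIdeal B) 1 G)).app ⊤
    (e1.hom.app ⊤ ((Formal.modPowπ (IsLocalRing.maximalIdeal B) 1
      (CohB1.tensorMod G (XS.DI.Dl F))).app ⊤ w)) = _
  rw [hw, ht', ht]

include hsq in
/-- **homomorphisms of finite locally free modules lift from the closed fibre** when `Ext¹`
vanishes there. -/
theorem exists_lift (F G : X.Modules) (hF : FlatMod.IsFinLocFree F)
    (hG : FlatMod.IsFinLocFree G)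
    (h : Subsingleton (Abelian.Ext.{u} ((Scheme.Modules.pullback i).obj F)
      ((Scheme.Modules.pullback i).obj G) 1))
    (u₀ : (Scheme.Modules.pullback i).obj F ⟶ (Scheme.Modules.pullback i).obj G) :
    ∃ u : F ⟶ G, (Scheme.Modules.pullback i).map u = u₀ := by
  haveI : IsClosedImmersion i :=
    Groth.Agent.H5.RelC.isClosedImmersion_of_isPullback (IsLocalRing.maximalIdeal B) f' i hsq
  letI : Z.Over (Spec (CommRingCat.of B)) := ⟨i ≫ (X ↘ Spec (CommRingCat.of B))⟩
  haveI : i.IsOver (Spec (CommRingCat.of B)) := ⟨rfl⟩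
  haveI : IsLocallyNoetherian X :=
    LocallyOfFiniteType.isLocallyNoetherian (X ↘ Spec (CommRingCat.of B))
  haveI hGq : G.IsQuasicoherent := QC.qc_of_isFinLocFree G hG
  have hGc : Coh.IsCoh G := Groth.Agent.H4.PSch4.isCoh_of_isFinLocFree G hG
  have hQc : Coh.IsCoh (Formal.modPow (IsLocalRing.maximalIdeal B) 1 G) :=
    isCoh_modPow (IsLocalRing.maximalIdeal B) 1 hGc
  haveI := hQc.1
  have hkQ : Formal.KilledBy (IsLocalRing.maximalIdeal B)
      (Formal.modPow (IsLocalRing.maximalIdeal B) 1 G) := by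
    have := killedBy_modPow (IsLocalRing.maximalIdeal B) 1 G
    rwa [pow_one] at this
  haveI hηQ : IsIso ((Scheme.Modules.pullbackPushforwardAdjunction i).unit.app
      (Formal.modPow (IsLocalRing.maximalIdeal B) 1 G)) :=
    Groth.Agent.H5.RelC.isIso_unit_of_killedBy _ f' i hsq _ hkQ
  haveI hπG : IsIso ((Scheme.Modules.pullback i).map
      (Formal.modPowπ (IsLocalRing.maximalIdeal B) 1 G)) :=
    NF.isIso_pullback_map_modPowπ _ i f' hsq _ 1 (pow_one _).symm G
  obtain ⟨adj, hadj⟩ : ∃ adj : Scheme.Modules.pullback i ⊣ Scheme.Modules.pushforward i,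
      adj = Scheme.Modules.pullbackPushforwardAdjunction i := ⟨_, rfl⟩
  rw [← hadj] at hηQ
  obtain ⟨w₀, hw₀⟩ : ∃ w₀ : (Scheme.Modules.pullback i).obj F ⟶
      (Scheme.Modules.pullback i).obj (Formal.modPow (IsLocalRing.maximalIdeal B) 1 G),
      w₀ = u₀ ≫ (Scheme.Modules.pullback i).map
        (Formal.modPowπ (IsLocalRing.maximalIdeal B) 1 G) := ⟨_, rfl⟩
  obtain ⟨u, hu⟩ := exists_hom_comp_modPowπ_eq i f' hsq F G hF hG h
    (adj.unit.app F ≫ (Scheme.Modules.pushforward i).map w₀ ≫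
      inv (adj.unit.app (Formal.modPow (IsLocalRing.maximalIdeal B) 1 G)))
  refine ⟨u, ?_⟩
  have h1 : (Scheme.Modules.pullback i).map
      (u ≫ Formal.modPowπ (IsLocalRing.maximalIdeal B) 1 G) = w₀ := by
    rw [hu]
    apply (adj.homEquiv F _).injective
    rw [Adjunction.homEquiv_unit, Adjunction.homEquiv_unit]
    have hn := adj.unit.naturality (adj.unit.app F ≫ (Scheme.Modules.pushforward i).map w₀ ≫
      inv (adj.unit.app (Formal.modPow (IsLocalRing.maximalIdeal B) 1 G)))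
    refine hn.symm.trans ?_
    rw [Functor.id_map, Category.assoc, Category.assoc]
    erw [IsIso.inv_hom_id]
    rw [Category.comp_id]
  rw [Functor.map_comp, hw₀] at h1
  exact (cancel_mono ((Scheme.Modules.pullback i).map
    (Formal.modPowπ (IsLocalRing.maximalIdeal B) 1 G))).1 h1

end Lift

end Groth.Agent.LD.LF
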