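import Groth.Agent.Lib.Lead.LF.Lift
import Groth.Agent.Lib.Helper1.PISplit
import Mathlib.AlgebraicGeometry.Fiber

/-! # S4476: homomorphisms of finite locally free modules lift from the closed fibre -/

set_option autoImplicit false
universe u
open CategoryTheory Limits Opposite TopologicalSpace AlgebraicGeometry

namespace Groth.Agent.LD.LF

open Groth.Agent.LD

/-- the closed fibre of a scheme over a local ring, as a base change along `A → A/𝔪`. -/
theorem exists_isPullback_closedFibre (A : Type u) [CommRing A] [IsLocalRing A] {X : Scheme.{u}}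
    (f : X ⟶ Spec (CommRingCat.of A)) :
    ∃ f' : f.fiber (IsLocalRing.closedPoint A) ⟶
        Spec (CommRingCat.of (A ⧸ IsLocalRing.maximalIdeal A)),
      IsPullback (f.fiberι (IsLocalRing.closedPoint A)) f' f
        (Spec.map (CommRingCat.ofHom (algebraMap A (A ⧸ IsLocalRing.maximalIdeal A)))) := by
  obtain ⟨y, hy⟩ : ∃ y : Spec (CommRingCat.of A), y = IsLocalRing.closedPoint A := ⟨_, rfl⟩
  rw [← hy]
  obtain ⟨φ, hφ, hker, hfrac⟩ := Groth.Agent.H1.PISplit.exists_hom_frac (CommRingCat.of A) y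
  have hker' : RingHom.ker φ.hom = IsLocalRing.maximalIdeal A := by
    rw [hker, hy]
    rfl
  have hsurj : Function.Surjective φ.hom := by
    intro w
    obtain ⟨a, c, hc, hac⟩ := hfrac w
    have hcu : IsUnit c := by
      by_contra hnu
      apply hc
      have : c ∈ RingHom.ker φ.hom := by
        rw [hker']
        exact (IsLocalRing.mem_maximalIdeal c).2 hnu
      exact this
    obtain ⟨v, rfl⟩ := hcu
    refine ⟨a * ((v⁻¹ : Aˣ) : A), ?_⟩
    rw [map_mul, ← hac, mul_assoc, ← map_mul, Units.mul_inv, map_one, mul_one]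
  have hzero : ∀ a ∈ IsLocalRing.maximalIdeal A, φ.hom a = 0 := by
    intro a ha
    rw [← hker'] at ha
    exact ha
  obtain ⟨ε, hε⟩ : ∃ ε : A ⧸ IsLocalRing.maximalIdeal A →+*
      ((Spec (CommRingCat.of A)).residueField y : Type u),
      ε = Ideal.Quotient.lift (IsLocalRing.maximalIdeal A) φ.hom hzero := ⟨_, rfl⟩
  have hεalg : ∀ x : A, ε (algebraMap A (A ⧸ IsLocalRing.maximalIdeal A) x) = φ.hom x := by
    intro x
    rw [hε]
    rfl
  have hεbij : Function.Bijective ε := by
    refine ⟨?_, fun w => ?_⟩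
    · rw [injective_iff_map_eq_zero]
      intro q hq
      obtain ⟨a, rfl⟩ := Ideal.Quotient.mk_surjective q
      have h1 : φ.hom a = 0 := (hεalg a).symm.trans hq
      have h2 : a ∈ IsLocalRing.maximalIdeal A := by
        rw [← hker']
        exact h1
      exact Ideal.Quotient.eq_zero_iff_mem.2 h2
    · obtain ⟨a, rfl⟩ := hsurj w
      exact ⟨algebraMap A (A ⧸ IsLocalRing.maximalIdeal A) a, hεalg a⟩
  obtain ⟨εC, hεC⟩ : ∃ εC : CommRingCat.of (A ⧸ IsLocalRing.maximalIdeal A) ⟶
      (Spec (CommRingCat.of A)).residueField y, εC = CommRingCat.ofHom ε := ⟨_, rfl⟩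
  haveI : IsIso εC := by
    have h : εC = (RingEquiv.ofBijective ε hεbij).toCommRingCatIso.hom := hεC
    rw [h]
    infer_instance
  have hcomm : (Spec (CommRingCat.of A)).fromSpecResidueField y =
      Spec.map εC ≫ Spec.map (CommRingCat.ofHom
        (algebraMap A (A ⧸ IsLocalRing.maximalIdeal A))) := by
    rw [← hφ, ← Spec.map_comp]
    congr 1
    ext x
    rw [hεC]
    exact (hεalg x).symm
  have hpb : IsPullback (f.fiberι y) (f.fiberToSpecResidueField y) f
      ((Spec (CommRingCat.of A)).fromSpecResidueField y) :=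
    IsPullback.of_hasPullback f ((Spec (CommRingCat.of A)).fromSpecResidueField y)
  refine ⟨f.fiberToSpecResidueField y ≫ Spec.map εC, ?_⟩
  refine IsPullback.of_iso hpb (Iso.refl _) (Iso.refl _) (asIso (Spec.map εC))
    (Iso.refl _) (by simp) (by simp) ?_ ?_
  · simp only [Iso.refl_hom, Category.id_comp, Category.comp_id]
  · rw [Iso.refl_hom, Category.comp_id, asIso_hom]
    exact hcomm

/-- **S4476.** -/
theorem s4476 (A : Type u) [CommRing A] [IsNoetherianRing A]
    [IsLocalRing A] (X : Scheme.{u}) [X.Over (Spec (CommRingCat.of A))]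
    [IsProper (X ↘ Spec (CommRingCat.of A))] [Flat (X ↘ Spec (CommRingCat.of A))]
    (F G : X.Modules) (hF : FlatMod.IsFinLocFree F) (hG : FlatMod.IsFinLocFree G)
    [DCoh.HasSheafHom (CohIII.fiberMod (X ↘ Spec (CommRingCat.of A)) F (IsLocalRing.closedPoint A))]
    (h1 : Subsingleton (Coh.HH ((X ↘ Spec (CommRingCat.of A)).fiber (IsLocalRing.closedPoint A))
      ((DCoh.sheafHom (CohIII.fiberMod (X ↘ Spec (CommRingCat.of A)) F (IsLocalRing.closedPoint A))).obj
        (CohIII.fiberMod (X ↘ Spec (CommRingCat.of A)) G (IsLocalRing.closedPoint A))) 1))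
    (u₀ : CohIII.fiberMod (X ↘ Spec (CommRingCat.of A)) F (IsLocalRing.closedPoint A) ⟶
      CohIII.fiberMod (X ↘ Spec (CommRingCat.of A)) G (IsLocalRing.closedPoint A)) :
    (∃ u : F ⟶ G,
      (Scheme.Modules.pullback ((X ↘ Spec (CommRingCat.of A)).fiberι (IsLocalRing.closedPoint A))).map u = u₀) ∧
    ∀ u : F ⟶ G,
      (Scheme.Modules.pullback ((X ↘ Spec (CommRingCat.of A)).fiberι (IsLocalRing.closedPoint A))).map u = u₀ →
        (Mono u₀ → Mono u) ∧ (Epi u₀ → Epi u) := by
  obtain ⟨f', hsq⟩ := exists_isPullback_closedFibre A (X ↘ Spec (CommRingCat.of A))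
  haveI := Groth.Agent.H1.sheafOfModules_isGrothendieckAbelian
    (Opens.grothendieckTopology X) X.ringCatSheaf
  haveI : EnoughInjectives X.Modules :=
    inferInstanceAs (EnoughInjectives (SheafOfModules.{u} X.ringCatSheaf))
  haveI : HasExt.{u} X.Modules := hasExt_of_enoughInjectives.{u} _
  haveI := Groth.Agent.H1.sheafOfModules_isGrothendieckAbelian
    (Opens.grothendieckTopology ((X ↘ Spec (CommRingCat.of A)).fiber (IsLocalRing.closedPoint A)))
    ((X ↘ Spec (CommRingCat.of A)).fiber (IsLocalRing.closedPoint A)).ringCatSheaf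
  haveI : EnoughInjectives ((X ↘ Spec (CommRingCat.of A)).fiber
      (IsLocalRing.closedPoint A)).Modules :=
    inferInstanceAs (EnoughInjectives (SheafOfModules.{u}
      ((X ↘ Spec (CommRingCat.of A)).fiber (IsLocalRing.closedPoint A)).ringCatSheaf))
  haveI : HasExt.{u} ((X ↘ Spec (CommRingCat.of A)).fiber (IsLocalRing.closedPoint A)).Modules :=
    hasExt_of_enoughInjectives.{u} _
  have hF₀ : FlatMod.IsFinLocFree
      (CohIII.fiberMod (X ↘ Spec (CommRingCat.of A)) F (IsLocalRing.closedPoint A)) :=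
    QC.isFinLocFree_pullback _ F hF
  obtain ⟨eE⟩ := EZ.nonempty_ext_addEquiv_HH_sheafHom
    (CohIII.fiberMod (X ↘ Spec (CommRingCat.of A)) F (IsLocalRing.closedPoint A))
    (CohIII.fiberMod (X ↘ Spec (CommRingCat.of A)) G (IsLocalRing.closedPoint A)) hF₀ 1
  have hExt : Subsingleton (Abelian.Ext.{u}
      ((Scheme.Modules.pullback ((X ↘ Spec (CommRingCat.of A)).fiberι
        (IsLocalRing.closedPoint A))).obj F)
      ((Scheme.Modules.pullback ((X ↘ Spec (CommRingCat.of A)).fiberι
        (IsLocalRing.closedPoint A))).obj G) 1) := eE.toEquiv.subsingleton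
  have hFc : Coh.IsCoh F := Groth.Agent.H4.PSch4.isCoh_of_isFinLocFree F hF
  have hGc : Coh.IsCoh G := Groth.Agent.H4.PSch4.isCoh_of_isFinLocFree G hG
  haveI := hFc.1
  haveI := hGc.1
  refine ⟨exists_lift _ f' hsq F G hF hG hExt u₀, fun u hu => ⟨fun hm => ?_, fun he => ?_⟩⟩
  · refine mono_of_mono_pullback _ f' hsq hFc hGc (fun x => ?_) u (by rw [hu]; exact hm)
    obtain ⟨U, hU, hxU, -, hfl⟩ := exists_flatSec_of_isFinLocFree (B := A) G hG ⊤ x trivial
    exact ⟨U, hU, hxU, hfl⟩
  · exact epi_of_epi_pullback _ f' hsq hGc.2 u (by rw [hu]; exact he)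

end Groth.Agent.LD.LF
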