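import Groth.Agent.Lib.Lead.LF.RestrIso
import Groth.Agent.Lib.Lead.LF.Main
import Groth.Agent.Lib.Lead.QC.TwistExt
import Groth.Agent.Lib.Lead.NF.Main

/-! # S4477: finite locally free modules which agree on a fibre agree near the fibre -/

set_option autoImplicit false
universe u
open CategoryTheory Limits Opposite TopologicalSpace AlgebraicGeometry

namespace Groth.Agent.LD.LF

open Groth.Agent.LD

set_option maxHeartbeats 1600000 in
/-- **S4477.** -/
theorem s4477 {X Y : Scheme.{u}} (f : X ⟶ Y) [IsProper f] [Flat f]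
    [IsLocallyNoetherian Y] (y : Y) (F G : X.Modules) (hF : FlatMod.IsFinLocFree F)
    (hG : FlatMod.IsFinLocFree G)
    [DCoh.HasSheafHom (CohIII.fiberMod f F y)]
    (h1 : Subsingleton (Coh.HH (f.fiber y)
      ((DCoh.sheafHom (CohIII.fiberMod f F y)).obj (CohIII.fiberMod f F y)) 1))
    (hy : Nonempty (CohIII.fiberMod f F y ≅ CohIII.fiberMod f G y)) :
    ∃ U : Y.Opens, y ∈ U ∧ Nonempty (F.restrict (f ⁻¹ᵁ U).ι ≅ G.restrict (f ⁻¹ᵁ U).ι) := by
  obtain ⟨e⟩ := hy
  haveI hFq : F.IsQuasicoherent := QC.qc_of_isFinLocFree F hF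
  haveI hGq : G.IsQuasicoherent := QC.qc_of_isFinLocFree G hG
  have hFp : F.IsFinitePresentation := QC.isFinitePresentation_of_isFinLocFree F hF
  have hGp : G.IsFinitePresentation := QC.isFinitePresentation_of_isFinLocFree G hG
  letI ov : (pullback f (Y.fromSpecStalk y)).Over (Spec (CommRingCat.of (Y.presheaf.stalk y))) :=
    ⟨pullback.snd f (Y.fromSpecStalk y)⟩
  have hsq : IsPullback (pullback.fst f (Y.fromSpecStalk y))
      ((pullback f (Y.fromSpecStalk y)) ↘ Spec (CommRingCat.of (Y.presheaf.stalk y))) f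
      (Y.fromSpecStalk y) := IsPullback.of_hasPullback f (Y.fromSpecStalk y)
  haveI : IsProper ((pullback f (Y.fromSpecStalk y)) ↘
      Spec (CommRingCat.of (Y.presheaf.stalk y))) :=
    MorphismProperty.of_isPullback (P := @IsProper) hsq inferInstance
  haveI : Flat ((pullback f (Y.fromSpecStalk y)) ↘
      Spec (CommRingCat.of (Y.presheaf.stalk y))) :=
    MorphismProperty.of_isPullback (P := @Flat) hsq inferInstance
  haveI : Flat (Y.fromSpecStalk y) := NF.flat_fromSpecStalk' Y y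
  haveI : Flat (pullback.fst f (Y.fromSpecStalk y)) :=
    MorphismProperty.of_isPullback (P := @Flat) hsq.flip inferInstance
  -- the closed fibre
  have hfac : f.fiberι y ≫ f =
      (f.fiberToSpecResidueField y ≫ Spec.map (Y.residue y)) ≫ Y.fromSpecStalk y := by
    rw [Category.assoc]
    exact f.fiber_fac y
  obtain ⟨i₀, hi₀⟩ : ∃ i₀ : f.fiber y ⟶ pullback f (Y.fromSpecStalk y),
      i₀ = pullback.lift (f.fiberι y)
        (f.fiberToSpecResidueField y ≫ Spec.map (Y.residue y)) hfac := ⟨_, rfl⟩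
  have hi₀g : i₀ ≫ pullback.fst f (Y.fromSpecStalk y) = f.fiberι y := by
    rw [hi₀, pullback.lift_fst]
  have hi₀f : i₀ ≫ pullback.snd f (Y.fromSpecStalk y) =
      f.fiberToSpecResidueField y ≫ Spec.map (Y.residue y) := by
    rw [hi₀, pullback.lift_snd]
  have hbig : IsPullback (i₀ ≫ pullback.fst f (Y.fromSpecStalk y))
      (f.fiberToSpecResidueField y) f (Spec.map (Y.residue y) ≫ Y.fromSpecStalk y) := by
    rw [hi₀g]
    exact IsPullback.of_hasPullback f (Y.fromSpecResidueField y)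
  have hsq₀ : IsPullback i₀ (f.fiberToSpecResidueField y)
      (pullback.snd f (Y.fromSpecStalk y)) (Spec.map (Y.residue y)) :=
    IsPullback.of_right hbig hi₀f hsq
  -- the modules on `X₁`
  obtain ⟨g, hg⟩ : ∃ g : pullback f (Y.fromSpecStalk y) ⟶ X,
      g = pullback.fst f (Y.fromSpecStalk y) := ⟨_, rfl⟩
  rw [← hg] at hsq hi₀g
  haveI : Flat g := by rw [hg]; infer_instance
  have hF₁ : FlatMod.IsFinLocFree ((Scheme.Modules.pullback g).obj F) :=
    QC.isFinLocFree_pullback g F hF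
  have hG₁ : FlatMod.IsFinLocFree ((Scheme.Modules.pullback g).obj G) :=
    QC.isFinLocFree_pullback g G hG
  have aF : (Scheme.Modules.pullback i₀).obj ((Scheme.Modules.pullback g).obj F) ≅
      CohIII.fiberMod f F y :=
    (Scheme.Modules.pullbackComp i₀ g).app F ≪≫ (Scheme.Modules.pullbackCongr hi₀g).app F
  have aG : (Scheme.Modules.pullback i₀).obj ((Scheme.Modules.pullback g).obj G) ≅
      CohIII.fiberMod f G y :=
    (Scheme.Modules.pullbackComp i₀ g).app G ≪≫ (Scheme.Modules.pullbackCongr hi₀g).app G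
  -- `Ext` groups
  haveI := Groth.Agent.H1.sheafOfModules_isGrothendieckAbelian
    (Opens.grothendieckTopology (pullback f (Y.fromSpecStalk y) : Scheme.{u}))
    (pullback f (Y.fromSpecStalk y) : Scheme.{u}).ringCatSheaf
  haveI : EnoughInjectives (pullback f (Y.fromSpecStalk y)).Modules :=
    inferInstanceAs (EnoughInjectives (SheafOfModules.{u}
      (pullback f (Y.fromSpecStalk y)).ringCatSheaf))
  haveI : HasExt.{u} (pullback f (Y.fromSpecStalk y)).Modules := hasExt_of_enoughInjectives.{u} _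
  haveI := Groth.Agent.H1.sheafOfModules_isGrothendieckAbelian
    (Opens.grothendieckTopology (f.fiber y)) (f.fiber y).ringCatSheaf
  haveI : EnoughInjectives (f.fiber y).Modules :=
    inferInstanceAs (EnoughInjectives (SheafOfModules.{u} (f.fiber y).ringCatSheaf))
  haveI : HasExt.{u} (f.fiber y).Modules := hasExt_of_enoughInjectives.{u} _
  have hF₀ : FlatMod.IsFinLocFree (CohIII.fiberMod f F y) := QC.isFinLocFree_pullback _ F hF
  obtain ⟨eE⟩ := EZ.nonempty_ext_addEquiv_HH_sheafHom (CohIII.fiberMod f F y)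
    (CohIII.fiberMod f F y) hF₀ 1
  haveI hE0 : Subsingleton (Abelian.Ext.{u} (CohIII.fiberMod f F y) (CohIII.fiberMod f F y) 1) :=
    eE.toEquiv.subsingleton
  have hExt : Subsingleton (Abelian.Ext.{u}
      ((Scheme.Modules.pullback i₀).obj ((Scheme.Modules.pullback g).obj F))
      ((Scheme.Modules.pullback i₀).obj ((Scheme.Modules.pullback g).obj G)) 1) :=
    ((QC.extEquivLeft aF _ 1).trans (QC.extEquivRight _ (aG ≪≫ e.symm) 1)).toEquiv.subsingleton
  -- lift the isomorphism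
  obtain ⟨u₁, hu₁⟩ := exists_lift (B := Y.presheaf.stalk y) i₀ (f.fiberToSpecResidueField y)
    hsq₀ _ _ hF₁ hG₁ hExt (aF.hom ≫ e.hom ≫ aG.inv)
  have hu₁iso : IsIso ((Scheme.Modules.pullback i₀).map u₁) := by
    rw [hu₁]
    infer_instance
  have hF₁c : Coh.IsCoh ((Scheme.Modules.pullback g).obj F) :=
    Groth.Agent.H4.PSch4.isCoh_of_isFinLocFree _ hF₁
  have hG₁c : Coh.IsCoh ((Scheme.Modules.pullback g).obj G) :=
    Groth.Agent.H4.PSch4.isCoh_of_isFinLocFree _ hG₁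
  haveI := hF₁c.1
  haveI := hG₁c.1
  haveI : Mono u₁ := by
    refine mono_of_mono_pullback (B := Y.presheaf.stalk y) i₀ (f.fiberToSpecResidueField y)
      hsq₀ hF₁c hG₁c (fun x => ?_) u₁ inferInstance
    obtain ⟨U, hU, hxU, -, hfl⟩ := exists_flatSec_of_isFinLocFree (B := Y.presheaf.stalk y)
      _ hG₁ ⊤ x trivial
    exact ⟨U, hU, hxU, hfl⟩
  haveI : Epi u₁ := epi_of_epi_pullback (B := Y.presheaf.stalk y) i₀
    (f.fiberToSpecResidueField y) hsq₀ hG₁c.2 u₁ inferInstance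
  haveI : IsIso u₁ := isIso_of_mono_of_epi u₁
  -- spread out `u₁` and its inverse
  obtain ⟨V₁, hyV₁, σ, hσ⟩ := exists_section_homSh f y
    ((pullback f (Y.fromSpecStalk y)) ↘ Spec (CommRingCat.of (Y.presheaf.stalk y))) g hsq
    F G hF hFp u₁
  obtain ⟨V₂, hyV₂, τ, hτ⟩ := exists_section_homSh f y
    ((pullback f (Y.fromSpecStalk y)) ↘ Spec (CommRingCat.of (Y.presheaf.stalk y))) g hsq
    G F hG hGp (inv u₁)
  have hp₁ : f ⁻¹ᵁ (V₁ ⊓ V₂) ≤ f ⁻¹ᵁ V₁ := fun _ hx => hx.1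
  have hp₂ : f ⁻¹ᵁ (V₁ ⊓ V₂) ≤ f ⁻¹ᵁ V₂ := fun _ hx => hx.2
  have hW := NF.top_le_preimage f y
    ((pullback f (Y.fromSpecStalk y)) ↘ Spec (CommRingCat.of (Y.presheaf.stalk y))) g hsq
    (V₁ ⊓ V₂) ⟨hyV₁, hyV₂⟩
  have hσ' : (homBC g F G hFp).app ⊤ (QC.pbSec g _ hW
      ((RefHull.homSh F G).presheaf.map (homOfLE hp₁).op σ)) = RefHull.ofHom u₁ ⊤ := by
    rw [QC.pbSec_res g _ _ hW (le_refl _) hp₁, QC.res_self]
    exact hσ
  have hτ' : (homBC g G F hGp).app ⊤ (QC.pbSec g _ hW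
      ((RefHull.homSh G F).presheaf.map (homOfLE hp₂).op τ)) = RefHull.ofHom (inv u₁) ⊤ := by
    rw [QC.pbSec_res g _ _ hW (le_refl _) hp₂, QC.res_self]
    exact hτ
  obtain ⟨U₁, hyU₁, hid₁⟩ := exists_idOn_preimage f y
    ((pullback f (Y.fromSpecStalk y)) ↘ Spec (CommRingCat.of (Y.presheaf.stalk y))) g hsq
    F G hF hFp hGp hW _ _ u₁ (inv u₁) hσ' hτ' (IsIso.hom_inv_id u₁)
  obtain ⟨U₂, hyU₂, hid₂⟩ := exists_idOn_preimage f y
    ((pullback f (Y.fromSpecStalk y)) ↘ Spec (CommRingCat.of (Y.presheaf.stalk y))) g hsq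
    G F hG hGp hFp hW _ _ (inv u₁) u₁ hτ' hσ' (IsIso.inv_hom_id u₁)
  refine ⟨U₁ ⊓ U₂, ⟨hyU₁, hyU₂⟩, ?_⟩
  exact nonempty_restrict_iso_of_idOn F G _ _ (f ⁻¹ᵁ (U₁ ⊓ U₂))
    (hid₁.mono (fun _ hx => hx.1)) (hid₂.mono (fun _ hx => hx.2))

end Groth.Agent.LD.LF
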