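import Groth.Agent.Lib.Lead.LF.SpreadHom

/-!
# Isomorphisms of restricted modules from mutually inverse sections of the sheaf Hom
-/

set_option autoImplicit false
universe u
open CategoryTheory Limits AlgebraicGeometry TopologicalSpace Opposite TensorProduct

namespace Groth.Agent.LD.LF

open Groth.Agent.H2.HomSh Groth.Agent.LD Groth.Agent.LD.PD.HA

attribute [-instance] Groth.Agent.LD.QC.stalkModule

section Sec

variable {U X : Scheme.{u}} (j : U ⟶ X) [IsOpenImmersion j] (M : X.Modules)

/-- sections over the image are sections of the restriction. -/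
def toRestrictSec (O : U.Opens) (s : Γ(M, j ''ᵁ O)) : Γ(M.restrict j, O) := s

/-- sections of the restriction are sections over the image. -/
def ofRestrictSec (O : U.Opens) (s : Γ(M.restrict j, O)) : Γ(M, j ''ᵁ O) := s

lemma ofRestrictSec_toRestrictSec (O : U.Opens) (s : Γ(M, j ''ᵁ O)) :
    ofRestrictSec j M O (toRestrictSec j M O s) = s := rfl

lemma toRestrictSec_ofRestrictSec (O : U.Opens) (s : Γ(M.restrict j, O)) :
    toRestrictSec j M O (ofRestrictSec j M O s) = s := rfl

lemma toRestrictSec_res {O O' : U.Opens} (h : O' ≤ O) (x : Γ(M, j ''ᵁ O)) :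
    (M.restrict j).presheaf.map (homOfLE h).op (toRestrictSec j M O x) =
      toRestrictSec j M O' (M.presheaf.map (homOfLE (j.image_mono h)).op x) := rfl

end Sec

section

variable {U X : Scheme.{u}} (j : U ⟶ X) [IsOpenImmersion j] (F G : X.Modules)

lemma app_restrHom' [F.IsQuasicoherent] (O : U.Opens) (x : Γ(RefHull.homSh F G, j ''ᵁ O))
    (m : Γ(F.restrict j, O)) :
    app ((XS.restrHom j F G).app O (toRestrictSec j _ O x)) le_rfl m =
      toRestrictSec j G O (app x le_rfl (ofRestrictSec j F O m)) :=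
  XS.app_restrHom j F G O _ m

end

variable {X : Scheme.{u}} (F G : X.Modules)

/-- the morphism of restricted modules defined by a section of the sheaf Hom. -/
noncomputable def homOfSecOn [F.IsQuasicoherent] {W : X.Opens} (σ : Γ(RefHull.homSh F G, W))
    (W' : X.Opens) (hW' : W' ≤ W) : F.restrict W'.ι ⟶ G.restrict W'.ι :=
  HF.homOfSec ((XS.restrHom W'.ι F G).app ⊤
    (toRestrictSec W'.ι (RefHull.homSh F G) ⊤
      ((RefHull.homSh F G).presheaf.map (homOfLE ((W'.ι_image_le ⊤).trans hW')).op σ)))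

lemma homOfSecOn_app [F.IsQuasicoherent] {W : X.Opens} (σ : Γ(RefHull.homSh F G, W))
    (W' : X.Opens) (hW' : W' ≤ W) (O : (W' : Scheme.{u}).affineOpens)
    (s : Γ(F.restrict W'.ι, O.1)) :
    (homOfSecOn F G σ W' hW').app O.1 s =
      toRestrictSec W'.ι G O.1
        (app σ ((W'.ι_image_le O.1).trans hW') (ofRestrictSec W'.ι F O.1 s)) := by
  unfold homOfSecOn
  rw [HF.homOfSec_app]
  have h1 := app_res_hom (le_top : O.1 ≤ ⊤) ((XS.restrHom W'.ι F G).app ⊤
    (toRestrictSec W'.ι (RefHull.homSh F G) ⊤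
      ((RefHull.homSh F G).presheaf.map (homOfLE ((W'.ι_image_le ⊤).trans hW')).op σ)))
    le_rfl s
  refine h1.symm.trans ?_
  rw [← QC.app_res (XS.restrHom W'.ι F G) le_top, toRestrictSec_res, app_restrHom',
    QC.res_res]
  exact congrArg (toRestrictSec W'.ι G O.1)
    (app_res_hom ((W'.ι_image_le O.1).trans hW') σ le_rfl _)

/-- mutually inverse sections of the sheaf Hom over `W'` define an isomorphism of the
restrictions to `W'`. -/
theorem nonempty_restrict_iso_of_idOn [F.IsQuasicoherent] [G.IsQuasicoherent] {W : X.Opens}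
    (σ : Γ(RefHull.homSh F G, W)) (τ : Γ(RefHull.homSh G F, W)) (W' : X.Opens)
    (h1 : IdOn F G σ τ W') (h2 : IdOn G F τ σ W') :
    Nonempty (F.restrict W'.ι ≅ G.restrict W'.ι) := by
  obtain ⟨hW', hid1⟩ := h1
  obtain ⟨hW'', hid2⟩ := h2
  refine ⟨⟨homOfSecOn F G σ W' hW', homOfSecOn G F τ W' hW', ?_, ?_⟩⟩
  · apply QC.hom_ext_affine
    intro O s
    change (homOfSecOn G F τ W' hW').app O.1 ((homOfSecOn F G σ W' hW').app O.1 s) = s
    rw [homOfSecOn_app, homOfSecOn_app, ofRestrictSec_toRestrictSec,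
      hid1 (W'.ι ''ᵁ O.1) (W'.ι_image_le O.1) _, toRestrictSec_ofRestrictSec]
  · apply QC.hom_ext_affine
    intro O s
    change (homOfSecOn F G σ W' hW').app O.1 ((homOfSecOn G F τ W' hW').app O.1 s) = s
    rw [homOfSecOn_app, homOfSecOn_app, ofRestrictSec_toRestrictSec,
      hid2 (W'.ι ''ᵁ O.1) (W'.ι_image_le O.1) _, toRestrictSec_ofRestrictSec]

end Groth.Agent.LD.LF
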