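import Groth.Agent.Lib.Lead.LF.HomBC
import Groth.Agent.Lib.Lead.NF.Spread
import Groth.Agent.Lib.Lead.HF.Sheaf
import Groth.Agent.Lib.Helper2.HomSh4

/-!
# Spreading out homomorphisms of finite locally free modules from the base change to
`Spec O_{Y,y}` to a neighbourhood of the fibre
-/

set_option autoImplicit false
universe u
open CategoryTheory Limits AlgebraicGeometry TopologicalSpace Opposite TensorProduct

namespace Groth.Agent.LD.LF

open Groth.Agent.H2.HomSh Groth.Agent.LD Groth.Agent.LD.PD.HA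

attribute [-instance] Groth.Agent.LD.QC.stalkModule

section Generic

variable {X X₁ : Scheme.{u}} (g : X₁ ⟶ X)

/-- `pbSec` as an additive map. -/
noncomputable def pbSecHom (M : X.Modules) {U : X₁.Opens} {V : X.Opens} (e : U ≤ g ⁻¹ᵁ V) :
    Γ(M, V) →+ Γ((Scheme.Modules.pullback g).obj M, U) :=
  AddMonoidHom.mk' (QC.pbSec g M e) (QC.pbSec_add g M e)

lemma pbSec_sum (M : X.Modules) {U : X₁.Opens} {V : X.Opens} (e : U ≤ g ⁻¹ᵁ V) {ι : Type*}
    (s : Finset ι) (m : ι → Γ(M, V)) :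
    QC.pbSec g M e (∑ i ∈ s, m i) = ∑ i ∈ s, QC.pbSec g M e (m i) :=
  map_sum (pbSecHom g M e) m s

lemma pbSec_sub (M : X.Modules) {U : X₁.Opens} {V : X.Opens} (e : U ≤ g ⁻¹ᵁ V)
    (m m' : Γ(M, V)) : QC.pbSec g M e (m - m') = QC.pbSec g M e m - QC.pbSec g M e m' :=
  map_sub (pbSecHom g M e) m m'

/-- the stalk maps of a flat morphism are injective. -/
lemma stalkMap_injective_of_flat [Flat g] (x₁ : X₁) :
    Function.Injective (g.stalkMap x₁).hom := by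
  algebraize [(g.stalkMap x₁).hom]
  have : Module.FaithfullyFlat (X.presheaf.stalk (g x₁)) (X₁.presheaf.stalk x₁) :=
    @Module.FaithfullyFlat.of_flat_of_isLocalHom _ _ _ _ _ _ _
      (Flat.stalkMap g x₁) (g.toLRSHom.prop x₁)
  exact ‹RingHom.FaithfullyFlat _›.injective

variable (F G : X.Modules)

/-- a section of a module with a basis whose pullback along a flat morphism vanishes has
vanishing germs at the points of the image. -/
lemma germ_eq_zero_of_pbSec_eq_zero [Flat g] [F.IsQuasicoherent] {O : X.Opens} {n : ℕ}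
    {e : Fin n → Γ(F, O)} (he : QC.IsBasisFam F O e) (d : Γ(F, O))
    (hd : QC.pbSec g F (le_refl (g ⁻¹ᵁ O)) d = 0) (x₁ : X₁) (hx : g x₁ ∈ O) :
    F.presheaf.germ O (g x₁) hx d = 0 := by
  obtain ⟨a, ha⟩ := (he O le_rfl).2 d
  have ha' : ∑ i, a i • e i = d := by
    have : ∑ i, a i • F.presheaf.map (homOfLE (le_refl O)).op (e i) = d := ha
    simpa only [QC.res_self] using this
  have hpb := he.pullback g (le_refl (g ⁻¹ᵁ O))
  have h0 : (fun i => g.appLE O (g ⁻¹ᵁ O) (le_refl _) (a i)) = 0 := by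
    apply (hpb (g ⁻¹ᵁ O) le_rfl).1
    change ∑ i, g.appLE O (g ⁻¹ᵁ O) (le_refl _) (a i) •
        ((Scheme.Modules.pullback g).obj F).presheaf.map (homOfLE (le_refl _)).op
          (QC.pbSec g F (le_refl (g ⁻¹ᵁ O)) (e i)) =
      ∑ i, (0 : Fin n → Γ(X₁, g ⁻¹ᵁ O)) i •
        ((Scheme.Modules.pullback g).obj F).presheaf.map (homOfLE (le_refl _)).op
          (QC.pbSec g F (le_refl (g ⁻¹ᵁ O)) (e i))
    simp only [QC.res_self, Pi.zero_apply, zero_smul, Finset.sum_const_zero]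
    rw [← hd, ← ha', pbSec_sum]
    exact Finset.sum_congr rfl fun i _ => (QC.pbSec_smul g F _ (a i) (e i)).symm
  have hgerm : ∀ i, X.presheaf.germ O (g x₁) hx (a i) = 0 := by
    intro i
    apply stalkMap_injective_of_flat g x₁
    rw [map_zero]
    have h1 := Scheme.Hom.germ_stalkMap_apply g O x₁ hx (a i)
    refine h1.trans ?_
    have h2 : g.app O (a i) = 0 := by
      have := congrFun h0 i
      rwa [Scheme.Hom.appLE_eq_app] at this
    rw [h2, map_zero]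
  rw [← ha', map_sum]
  refine Finset.sum_eq_zero fun i _ => ?_
  rw [Mero.germ_smul, hgerm i, zero_smul]

/-- the pullback of the action of a section of the sheaf Hom which spreads out `u₁`. -/
lemma pbSec_app_eq [G.IsQuasicoherent] (hFp : F.IsFinitePresentation) {W : X.Opens}
    (hW : (⊤ : X₁.Opens) ≤ g ⁻¹ᵁ W) (σ : Γ(RefHull.homSh F G, W))
    (u₁ : (Scheme.Modules.pullback g).obj F ⟶ (Scheme.Modules.pullback g).obj G)
    (hσ : (homBC g F G hFp).app ⊤ (QC.pbSec g _ hW σ) = RefHull.ofHom u₁ ⊤)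
    (O : X.affineOpens) (hOW : O.1 ≤ W) (m : Γ(F, O.1)) :
    QC.pbSec g G (le_refl (g ⁻¹ᵁ O.1)) (app σ hOW m) =
      u₁.app (g ⁻¹ᵁ O.1) (QC.pbSec g F (le_refl _) m) := by
  have h1 := app_homBC_pbSec g F G hFp O (le_refl (g ⁻¹ᵁ O.1))
    ((RefHull.homSh F G).presheaf.map (homOfLE hOW).op σ) m
  rw [app_res_hom hOW σ le_rfl m] at h1
  rw [← h1]
  have h2 : (homBC g F G hFp).app (g ⁻¹ᵁ O.1) (QC.pbSec g _ (le_refl (g ⁻¹ᵁ O.1))
      ((RefHull.homSh F G).presheaf.map (homOfLE hOW).op σ)) =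
      (RefHull.homSh ((Scheme.Modules.pullback g).obj F)
        ((Scheme.Modules.pullback g).obj G)).presheaf.map
        (homOfLE (le_top : g ⁻¹ᵁ O.1 ≤ ⊤)).op (RefHull.ofHom u₁ ⊤) := by
    rw [QC.pbSec_res g _ hW (le_refl (g ⁻¹ᵁ O.1)) le_top hOW σ, QC.app_res, hσ]
  rw [h2, app_res_hom le_top (RefHull.ofHom u₁ ⊤) le_rfl _, app_ofHom]

/-- `τ ∘ σ = id` on the sections over the opens inside `O`. -/
def IdOn {W : X.Opens} (σ : Γ(RefHull.homSh F G, W)) (τ : Γ(RefHull.homSh G F, W))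
    (O : X.Opens) : Prop :=
  ∃ hO : O ≤ W, ∀ (O' : X.Opens) (h : O' ≤ O) (s : Γ(F, O')),
    app τ (h.trans hO) (app σ (h.trans hO) s) = s

variable {F G}

lemma IdOn.mono {W : X.Opens} {σ : Γ(RefHull.homSh F G, W)} {τ : Γ(RefHull.homSh G F, W)}
    {O O₂ : X.Opens} (h : IdOn F G σ τ O) (h₂ : O₂ ≤ O) : IdOn F G σ τ O₂ := by
  obtain ⟨hO, hid⟩ := h
  exact ⟨h₂.trans hO, fun O' h' s => hid O' (h'.trans h₂) s⟩

lemma idOn_sSup {W : X.Opens} {σ : Γ(RefHull.homSh F G, W)} {τ : Γ(RefHull.homSh G F, W)}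
    (𝒲 : Set X.Opens) (h𝒲 : ∀ O ∈ 𝒲, IdOn F G σ τ O) : IdOn F G σ τ (sSup 𝒲) := by
  have hle : sSup 𝒲 ≤ W := sSup_le fun O hO => (h𝒲 O hO).1
  refine ⟨hle, fun O' h s => ?_⟩
  apply section_ext_germ
  intro x hx
  obtain ⟨O, hO𝒲, hxO⟩ := TopologicalSpace.Opens.mem_sSup.1 (h hx)
  obtain ⟨hOW, hid⟩ := h𝒲 O hO𝒲
  have hl : O' ⊓ O ≤ O' := inf_le_left
  have hx' : x ∈ O' ⊓ O := ⟨hx, hxO⟩
  rw [← TopCat.Presheaf.germ_res_apply F.presheaf (homOfLE hl) x hx',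
    ← TopCat.Presheaf.germ_res_apply F.presheaf (homOfLE hl) x hx' s]
  congr 1
  rw [← app_res τ (h.trans hle) hl, ← app_res σ (h.trans hle) hl]
  exact hid (O' ⊓ O) inf_le_right _

variable (F G)

set_option maxHeartbeats 1600000 in
/-- if `σ`, `τ` spread out `u₁`, `v₁` with `u₁ ≫ v₁ = 𝟙`, then `τ ∘ σ = id` near every point of
the image of `g`. -/
theorem exists_idOn_nbhd [Flat g] (hF : FlatMod.IsFinLocFree F) [F.IsQuasicoherent]
    [G.IsQuasicoherent]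
    (hFp : F.IsFinitePresentation) (hGp : G.IsFinitePresentation) {W : X.Opens}
    (hW : (⊤ : X₁.Opens) ≤ g ⁻¹ᵁ W) (σ : Γ(RefHull.homSh F G, W))
    (τ : Γ(RefHull.homSh G F, W))
    (u₁ : (Scheme.Modules.pullback g).obj F ⟶ (Scheme.Modules.pullback g).obj G)
    (v₁ : (Scheme.Modules.pullback g).obj G ⟶ (Scheme.Modules.pullback g).obj F)
    (hσ : (homBC g F G hFp).app ⊤ (QC.pbSec g _ hW σ) = RefHull.ofHom u₁ ⊤)
    (hτ : (homBC g G F hGp).app ⊤ (QC.pbSec g _ hW τ) = RefHull.ofHom v₁ ⊤)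
    (huv : u₁ ≫ v₁ = 𝟙 _) (x₁ : X₁) :
    ∃ O : X.Opens, g x₁ ∈ O ∧ IdOn F G σ τ O := by
  have hxW : g x₁ ∈ W := hW (Set.mem_univ x₁)
  obtain ⟨U₁, n, e, hxU₁, he⟩ := QC.exists_isBasisFam_of_isFinLocFree F hF (g x₁)
  obtain ⟨O, hO, hxO, hOle⟩ := exists_isAffineOpen_mem_and_subset (x := g x₁)
    (U := U₁ ⊓ W) ⟨hxU₁, hxW⟩
  have hOU₁ : O ≤ U₁ := fun z hz => (hOle hz).1
  have hOW : O ≤ W := fun z hz => (hOle hz).2
  have he' := he.mono hOU₁
  obtain ⟨e', he'def⟩ : ∃ e' : Fin n → Γ(F, O),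
      e' = fun i => F.presheaf.map (homOfLE hOU₁).op (e i) := ⟨_, rfl⟩
  rw [← he'def] at he'
  obtain ⟨d, hddef⟩ : ∃ d : Fin n → Γ(F, O),
      d = fun i => app τ hOW (app σ hOW (e' i)) - e' i := ⟨_, rfl⟩
  have hd : ∀ i, QC.pbSec g F (le_refl (g ⁻¹ᵁ O)) (d i) = 0 := by
    intro i
    have hdi : d i = app τ hOW (app σ hOW (e' i)) - e' i := by rw [hddef]
    rw [hdi, pbSec_sub, pbSec_app_eq g G F hGp hW τ v₁ hτ ⟨O, hO⟩ hOW,
      pbSec_app_eq g F G hFp hW σ u₁ hσ ⟨O, hO⟩ hOW]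
    have h3 : v₁.app (g ⁻¹ᵁ O) (u₁.app (g ⁻¹ᵁ O) (QC.pbSec g F (le_refl _) (e' i))) =
        QC.pbSec g F (le_refl _) (e' i) :=
      congrArg (fun ψ : (Scheme.Modules.pullback g).obj F ⟶ (Scheme.Modules.pullback g).obj F =>
        Scheme.Modules.Hom.app ψ (g ⁻¹ᵁ O) (QC.pbSec g F (le_refl _) (e' i))) huv
    rw [h3, sub_self]
  have hgerm : ∀ i, F.presheaf.germ O (g x₁) hxO (d i) = 0 := fun i =>
    germ_eq_zero_of_pbSec_eq_zero g F he' (d i) (hd i) x₁ hxO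
  obtain ⟨O', hO'O, hxO', hzero⟩ := exists_common_zero F (g x₁) hxO d hgerm
  refine ⟨O', hxO', hO'O.trans hOW, fun O'' h s => ?_⟩
  obtain ⟨c, hc⟩ := (he' O'' (h.trans hO'O)).2 s
  have hc' : ∑ i, c i • F.presheaf.map (homOfLE (h.trans hO'O)).op (e' i) = s := hc
  rw [← hc']
  have hlin : ∀ z : Γ(F, O''), app τ (h.trans (hO'O.trans hOW))
      (app σ (h.trans (hO'O.trans hOW)) z) =
      ((appLin τ (h.trans (hO'O.trans hOW))).comp (appLin σ (h.trans (hO'O.trans hOW)))) z :=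
    fun z => rfl
  rw [hlin, map_sum]
  refine Finset.sum_congr rfl (fun k _ => ?_)
  rw [map_smul]
  congr 1
  change app τ (h.trans (hO'O.trans hOW)) (app σ (h.trans (hO'O.trans hOW))
    (F.presheaf.map (homOfLE (h.trans hO'O)).op (e' k))) = _
  rw [app_res σ hOW (h.trans hO'O) (e' k), app_res τ hOW (h.trans hO'O) _]
  have h4 : app τ hOW (app σ hOW (e' k)) = d k + e' k := by
    rw [hddef]
    exact (sub_add_cancel _ _).symm
  rw [h4, map_add, ← QC.res_res F hO'O h (d k), hzero k, map_zero, zero_add]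

end Generic

section Spread

variable {X Y : Scheme.{u}} (f : X ⟶ Y) (y : Y) {X₁ : Scheme.{u}}
  (f₁ : X₁ ⟶ Spec (Y.presheaf.stalk y)) (g : X₁ ⟶ X)
  (hsq : IsPullback g f₁ f (Y.fromSpecStalk y)) (F G : X.Modules)

include hsq in
/-- **homomorphisms on the base change to the local ring spread out to a neighbourhood**, as
sections of the sheaf Hom. -/
theorem exists_section_homSh [QuasiCompact f] [QuasiSeparated f] [G.IsQuasicoherent]
    (hF : FlatMod.IsFinLocFree F) (hFp : F.IsFinitePresentation)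
    (u₁ : (Scheme.Modules.pullback g).obj F ⟶ (Scheme.Modules.pullback g).obj G) :
    ∃ (V : Y.Opens) (hy : y ∈ V) (σ : Γ(RefHull.homSh F G, f ⁻¹ᵁ V)),
      (homBC g F G hFp).app ⊤ (QC.pbSec g _ (NF.top_le_preimage f y f₁ g hsq V hy) σ) =
        RefHull.ofHom u₁ ⊤ := by
  haveI := qc_homSh (G := G) hFp
  haveI := isIso_homBC g F G hF hFp
  obtain ⟨V, hy, σ, hσ⟩ := NF.exists_section_of_pullback f y f₁ g hsq (RefHull.homSh F G)
    ((inv (homBC g F G hFp)).app ⊤ (RefHull.ofHom u₁ ⊤))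
  exact ⟨V, hy, σ, by rw [hσ, app_inv_app]⟩

include hsq in
/-- if `σ`, `τ` spread out `u₁`, `v₁` with `u₁ ≫ v₁ = 𝟙`, then `τ ∘ σ = id` over the preimage
of a neighbourhood of `y`. -/
theorem exists_idOn_preimage [IsProper f] [Flat g] (hF : FlatMod.IsFinLocFree F)
    [F.IsQuasicoherent] [G.IsQuasicoherent]
    (hFp : F.IsFinitePresentation) (hGp : G.IsFinitePresentation) {W : X.Opens}
    (hW : (⊤ : X₁.Opens) ≤ g ⁻¹ᵁ W) (σ : Γ(RefHull.homSh F G, W))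
    (τ : Γ(RefHull.homSh G F, W))
    (u₁ : (Scheme.Modules.pullback g).obj F ⟶ (Scheme.Modules.pullback g).obj G)
    (v₁ : (Scheme.Modules.pullback g).obj G ⟶ (Scheme.Modules.pullback g).obj F)
    (hσ : (homBC g F G hFp).app ⊤ (QC.pbSec g _ hW σ) = RefHull.ofHom u₁ ⊤)
    (hτ : (homBC g G F hGp).app ⊤ (QC.pbSec g _ hW τ) = RefHull.ofHom v₁ ⊤)
    (huv : u₁ ≫ v₁ = 𝟙 _) :
    ∃ U : Y.Opens, y ∈ U ∧ IdOn F G σ τ (f ⁻¹ᵁ U) := by
  obtain ⟨G₀, hG₀⟩ : ∃ G₀ : X.Opens, G₀ = sSup {O | IdOn F G σ τ O} := ⟨_, rfl⟩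
  have hG₀id : IdOn F G σ τ G₀ := by
    rw [hG₀]
    exact idOn_sSup _ (fun O hO => hO)
  have hfib : ∀ x : X, f x = y → x ∈ G₀ := by
    intro x hx
    obtain ⟨x₁, hx₁, -⟩ := Scheme.exists_preimage_of_isPullback hsq x
      (IsLocalRing.closedPoint (Y.presheaf.stalk y))
      (by rw [hx]; exact Scheme.fromSpecStalk_closedPoint.symm)
    obtain ⟨O, hxO, hO⟩ := exists_idOn_nbhd g F G hF hFp hGp hW σ τ u₁ v₁ hσ hτ huv x₁
    rw [← hx₁, hG₀]
    exact TopologicalSpace.Opens.mem_sSup.2 ⟨O, hO, hxO⟩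
  have hclosed : IsClosed (f '' ((G₀ : Set X)ᶜ)) := f.isClosedMap _ G₀.2.isClosed_compl
  let U : Y.Opens := ⟨(f '' ((G₀ : Set X)ᶜ))ᶜ, hclosed.isOpen_compl⟩
  have hyU : y ∈ U := by
    rintro ⟨x, hxG, hxy⟩
    exact hxG (hfib x hxy)
  have hUG : f ⁻¹ᵁ U ≤ G₀ := by
    intro x hx
    by_contra hxG
    exact hx ⟨x, hxG, rfl⟩
  exact ⟨U, hyU, hG₀id.mono hUG⟩

end Spread

end Groth.Agent.LD.LF
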